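import Groth.Agent.Lib.Helper2.CptD.Proj
import Groth.Prelude.Def_CohDer
import Mathlib.Algebra.DirectSum.Basic

/-!
# `CohDer.homSumToHomCoprod` versus finite projectors
-/

set_option autoImplicit false

universe v u

open CategoryTheory CategoryTheory.Limits

namespace Groth.Agent.Lib.Helper2.CptD

variable {D : Type u} [Category.{v} D] [Preadditive D]

open Classical in
lemma homSumToHomCoprod_of (K : D) {κ : Type v} (Z : κ → D) [HasCoproduct Z] (i : κ)
    (g : K ⟶ Z i) :
    CohDer.homSumToHomCoprod K Z (DirectSum.of (fun i => K ⟶ Z i) i g) = g ≫ Sigma.ι Z i := by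
  simp [CohDer.homSumToHomCoprod]
  rfl

/-- The canonical colimit cofan of a chosen coproduct. -/
noncomputable abbrev sigmaCofan {κ : Type v} (Z : κ → D) [HasCoproduct Z] : Cofan Z :=
  Cofan.mk (∐ Z) (Sigma.ι Z)

lemma exists_fix_homSumToHomCoprod (K : D) {κ : Type v} (Z : κ → D) [HasCoproduct Z]
    (x : DirectSum κ (fun i => K ⟶ Z i)) :
    ∃ t : Finset κ, CohDer.homSumToHomCoprod K Z x ≫
      proj (sigmaCofan Z) (coproductIsCoproduct Z) t = CohDer.homSumToHomCoprod K Z x := by
  classical
  induction x using DirectSum.induction_on with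
  | zero => exact ⟨∅, by simp⟩
  | of i g =>
    refine ⟨{i}, ?_⟩
    rw [homSumToHomCoprod_of, Category.assoc]
    congr 1
    exact inj_proj_of_mem (sigmaCofan Z) (coproductIsCoproduct Z) (by simp)
  | add x y hx hy =>
    obtain ⟨t, ht⟩ := hx
    obtain ⟨t', ht'⟩ := hy
    refine ⟨t ∪ t', ?_⟩
    rw [map_add, Preadditive.add_comp,
      fix_mono (sigmaCofan Z) (coproductIsCoproduct Z) Finset.subset_union_left _ ht,
      fix_mono (sigmaCofan Z) (coproductIsCoproduct Z) Finset.subset_union_right _ ht']

lemma homSumToHomCoprod_cπ (K : D) {κ : Type v} (Z : κ → D) [HasCoproduct Z]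
    (x : DirectSum κ (fun i => K ⟶ Z i)) (j : κ) :
    CohDer.homSumToHomCoprod K Z x ≫ cπ (sigmaCofan Z) (coproductIsCoproduct Z) j = x j := by
  classical
  induction x using DirectSum.induction_on with
  | zero => simp
  | of i g =>
    rw [homSumToHomCoprod_of, Category.assoc]
    by_cases h : i = j
    · subst h
      have := inj_cπ_self (sigmaCofan Z) (coproductIsCoproduct Z) i
      change Sigma.ι Z i ≫ _ = _ at this
      rw [this, Category.comp_id, DirectSum.of_eq_same]
    · have := inj_cπ_of_ne (sigmaCofan Z) (coproductIsCoproduct Z) h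
      change Sigma.ι Z i ≫ _ = _ at this
      rw [this, comp_zero, DirectSum.of_eq_of_ne _ _ _ (Ne.symm h)]
  | add x y hx hy =>
    rw [map_add, Preadditive.add_comp, hx, hy, DirectSum.add_apply]

lemma injective_homSumToHomCoprod (K : D) {κ : Type v} (Z : κ → D) [HasCoproduct Z] :
    Function.Injective (CohDer.homSumToHomCoprod K Z) := by
  rw [injective_iff_map_eq_zero]
  intro x hx
  refine DFinsupp.ext (fun j => ?_)
  rw [← homSumToHomCoprod_cπ K Z x j, hx, zero_comp]
  rfl

/-- A morphism fixed by a finite projector is in the image of `homSumToHomCoprod`. -/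
lemma mem_range_homSumToHomCoprod (K : D) {κ : Type v} (Z : κ → D) [HasCoproduct Z]
    (f : K ⟶ ∐ Z) (t : Finset κ)
    (hf : f ≫ proj (sigmaCofan Z) (coproductIsCoproduct Z) t = f) :
    ∃ x, CohDer.homSumToHomCoprod K Z x = f := by
  classical
  refine ⟨∑ i ∈ t, DirectSum.of (fun i => K ⟶ Z i) i
    (f ≫ cπ (sigmaCofan Z) (coproductIsCoproduct Z) i), ?_⟩
  rw [map_sum]
  conv_rhs => rw [← hf, proj_eq_sum, Preadditive.comp_sum]
  refine Finset.sum_congr rfl (fun i _ => ?_)
  rw [homSumToHomCoprod_of, Category.assoc]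
  rfl

/-- Transport of a fixed-point statement between two colimit cofans on the same family. -/
lemma fix_transport {κ : Type v} {Z : κ → D} (c c' : Cofan Z) (hc : IsColimit c)
    (hc' : IsColimit c') {K : D} (f : K ⟶ c.pt) (t : Finset κ)
    (h : (f ≫ (IsColimit.coconePointUniqueUpToIso hc hc').hom) ≫ proj c' hc' t =
      f ≫ (IsColimit.coconePointUniqueUpToIso hc hc').hom) :
    f ≫ proj c hc t = f := by
  have hcomp := proj_comp_of_compat c hc hc' (IsColimit.coconePointUniqueUpToIso hc hc').hom
    (fun i => IsColimit.comp_coconePointUniqueUpToIso_hom hc hc' ⟨i⟩) t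
  rw [← cancel_mono (IsColimit.coconePointUniqueUpToIso hc hc').hom, Category.assoc, hcomp,
    ← Category.assoc, h]

end Groth.Agent.Lib.Helper2.CptD
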