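import Groth.Agent.Lib.Helper2.CptD.Cx
import Groth.Agent.Lib27.DCoprod

/-!
# The localization functor `Q` preserves coproducts (Grothendieck abelian categories)
-/

set_option autoImplicit false

universe w v u

open CategoryTheory CategoryTheory.Limits

namespace Groth.Agent.Lib.Helper2.CptD

open DerivedCategory Groth.Agent.Lib27.DCoprod

/-- Image of a colimit cofan under a functor preserving it. -/
noncomputable def isColimitMapCofanOfPreserves {C D : Type*} [Category C] [Category D] (G : C ⥤ D)
    {J : Type*} {Y : J → C} [PreservesColimit (Discrete.functor Y) G] (c : Cofan Y)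
    (hc : IsColimit c) : IsColimit (Cofan.mk (G.obj c.pt) (fun j => G.map (c.inj j))) :=
  isColimitCofanMkObjOfIsColimit G Y c.inj
    (IsColimit.ofIsoColimit hc (Cofan.ext (Iso.refl _) (fun i => by simp) :
      c ≅ Cofan.mk c.pt c.inj))

variable {A : Type u} [Category.{v} A] [Abelian A] [IsGrothendieckAbelian.{v} A]
  [HasDerivedCategory.{w} A]

theorem qPreservesCofans : QPreservesCofans.{v} (A := A) := by
  intro J X c hc
  let q := HomotopyCategory.quotient A (ComplexShape.up ℤ)
  have hc1 : IsColimit (Cofan.mk (q.obj c.pt) (fun j => q.map (c.inj j))) :=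
    isColimitMapCofanOfPreserves q c hc
  let X' : J → HomotopyCategory A (ComplexShape.up ℤ) := fun j => q.obj (X j)
  have hc0 := isColimitMapCofan (Qh (C := A)) (HomotopyCategory.quasiIso A (ComplexShape.up ℤ)) X'
  let α : ∐ X' ≅ q.obj c.pt :=
    IsColimit.coconePointUniqueUpToIso (coproductIsCoproduct X') hc1
  have hα : ∀ j, Sigma.ι X' j ≫ α.hom = q.map (c.inj j) := fun j =>
    IsColimit.comp_coconePointUniqueUpToIso_hom (coproductIsCoproduct X') hc1 ⟨j⟩
  let β := fun K : CochainComplex A ℤ => (quotientCompQhIso A).app K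
  have hβ : ∀ {K L : CochainComplex A ℤ} (f : K ⟶ L),
      Q.map f ≫ (β L).inv = (β K).inv ≫ Qh.map (q.map f) := fun f =>
    quotientCompQhIso_inv_naturality f
  have key : ∀ j, Q.map (c.inj j) ≫ (β c.pt).inv ≫ Qh.map α.inv =
      (β (X j)).inv ≫ Qh.map (Sigma.ι X' j) := by
    intro j
    rw [reassoc_of% (hβ (c.inj j)), ← hα j, ← Functor.map_comp, Category.assoc, α.hom_inv_id,
      Category.comp_id]
  refine ⟨Cofan.IsColimit.mk _
    (fun s => (β c.pt).inv ≫ Qh.map α.inv ≫
      Cofan.IsColimit.desc hc0 (fun j => (β (X j)).hom ≫ s.inj j)) ?_ ?_⟩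
  · intro s j
    change Q.map (c.inj j) ≫ _ = _
    rw [reassoc_of% (key j)]
    have := Cofan.IsColimit.fac hc0 (fun j => (β (X j)).hom ≫ s.inj j) j
    change Qh.map (Sigma.ι X' j) ≫ _ = _ at this
    rw [this, Iso.inv_hom_id_assoc]
  · intro s m hm
    have h3 : Qh.map α.hom ≫ (β c.pt).hom ≫ m =
        Cofan.IsColimit.desc hc0 (fun j => (β (X j)).hom ≫ s.inj j) := by
      refine Cofan.IsColimit.hom_ext hc0 _ _ (fun j => ?_)
      rw [Cofan.IsColimit.fac]
      change Qh.map (Sigma.ι X' j) ≫ _ = _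
      rw [← Functor.map_comp_assoc, hα j]
      have h4 := quotientCompQhIso_hom_naturality (c.inj j)
      have h5 : Qh.map (q.map (c.inj j)) ≫ (β c.pt).hom = (β (X j)).hom ≫ Q.map (c.inj j) := h4
      rw [reassoc_of% h5]
      congr 1
      exact hm j
    rw [← h3, ← Functor.map_comp_assoc, α.inv_hom_id, CategoryTheory.Functor.map_id,
      Category.id_comp, Iso.inv_hom_id_assoc]

end Groth.Agent.Lib.Helper2.CptD
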