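import Groth.Agent.Lib.Helper2.CptD.Claim
import Groth.Agent.Lib.Helper2.CptD.QPres
import Groth.Agent.Lib.Helper2.CptD.Compact
import Groth.Agent.Lib.Helper13.DRingPC
import Mathlib.Algebra.Category.ModuleCat.AB
import Mathlib.Algebra.Homology.HomologicalComplexLimits

/-!
# Compact objects of `D(R)` for a commutative ring `R`: compact ↔ perfect
-/

set_option autoImplicit false

universe w' w v u

open CategoryTheory CategoryTheory.Limits HomologicalComplex

namespace Groth.Agent.Lib.Helper2.CptD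

section General

variable {A : Type u} [Category.{v} A] [Abelian A] [HasDerivedCategory.{w} A]

open DerivedCategory Groth.Agent.Lib.Helper13.PC

/-- To check compactness in `D(A)` it suffices to consider coproducts of the form `Q(∐ X)`. -/
lemma cptU_of_Q (hQ : QPreservesCofans.{w'} (A := A))
    [∀ ι : Type w', HasCoproductsOfShape ι (CochainComplex A ℤ)]
    {K : DerivedCategory A}
    (h : ∀ (ι : Type w') (X : ι → CochainComplex A ℤ) (c : Cofan X) (hc : IsColimit c)
      (hc' : IsColimit (Cofan.mk (Q.obj c.pt) (fun i => Q.map (c.inj i))))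
      (f : K ⟶ Q.obj c.pt), ∃ t : Finset ι, f ≫ proj _ hc' t = f) : CptU.{w'} K := by
  intro ι Y c hc f
  let X : ι → CochainComplex A ℤ := fun i => Q.objPreimage (Y i)
  let e : ∀ i, Q.obj (X i) ≅ Y i := fun i => Q.objObjPreimageIso (Y i)
  let cX : Cofan X := Cofan.mk (∐ X) (Sigma.ι X)
  have hcX : IsColimit cX := coproductIsCoproduct X
  obtain ⟨hcQ⟩ := hQ _ _ cX hcX
  let γ : Q.obj (∐ X) ⟶ c.pt := Cofan.IsColimit.desc hcQ (fun i => (e i).hom ≫ c.inj i)
  let δ : c.pt ⟶ Q.obj (∐ X) :=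
    Cofan.IsColimit.desc hc (fun i => (e i).inv ≫ Q.map (Sigma.ι X i))
  have hγ : ∀ i, Q.map (Sigma.ι X i) ≫ γ = (e i).hom ≫ c.inj i := fun i =>
    Cofan.IsColimit.fac hcQ _ i
  have hδ : ∀ i, c.inj i ≫ δ = (e i).inv ≫ Q.map (Sigma.ι X i) := fun i =>
    Cofan.IsColimit.fac hc _ i
  have hδγ : δ ≫ γ = 𝟙 _ := by
    refine Cofan.IsColimit.hom_ext hc _ _ (fun i => ?_)
    rw [reassoc_of% (hδ i), hγ i, Iso.inv_hom_id_assoc, Category.comp_id]
  have hpr : ∀ t : Finset ι, proj _ hcQ t ≫ γ = γ ≫ proj c hc t := by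
    intro t
    refine Cofan.IsColimit.hom_ext hcQ _ _ (fun i => ?_)
    change Q.map (Sigma.ι X i) ≫ _ = Q.map (Sigma.ι X i) ≫ _
    by_cases hi : i ∈ t
    · have h1 := inj_proj_of_mem _ hcQ hi
      change Q.map (Sigma.ι X i) ≫ _ = Q.map (Sigma.ι X i) at h1
      rw [reassoc_of% h1, reassoc_of% (hγ i), inj_proj_of_mem c hc hi]
      exact hγ i
    · have h1 := inj_proj_of_not_mem _ hcQ hi
      change Q.map (Sigma.ι X i) ≫ _ = 0 at h1
      rw [reassoc_of% h1, zero_comp, reassoc_of% (hγ i), inj_proj_of_not_mem c hc hi, comp_zero]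
  obtain ⟨t, ht⟩ := h ι X cX hcX hcQ (f ≫ δ)
  refine ⟨t, ?_⟩
  calc f ≫ proj c hc t = (f ≫ δ) ≫ γ ≫ proj c hc t := by
        rw [Category.assoc, reassoc_of% hδγ]
    _ = ((f ≫ δ) ≫ proj _ hcQ t) ≫ γ := by
        rw [← hpr t]
        simp only [Category.assoc]
    _ = f := by rw [ht, Category.assoc, hδγ, Category.comp_id]

/-- A projective small object placed in degree `0` is compact in `D(A)`. -/
lemma cptU_single_of_small (hQ : QPreservesCofans.{w'} (A := A))
    [∀ ι : Type w', HasCoproductsOfShape ι (CochainComplex A ℤ)]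
    [∀ ι : Type w', HasCoproductsOfShape ι A]
    (E : A) [Projective E]
    (hE : ∀ (ι : Type w') (F : ι → A) (c : Cofan F) (hc : IsColimit c) (g : E ⟶ c.pt),
      ∃ t : Finset ι, g ≫ proj c hc t = g) :
    CptU.{w'} ((DerivedCategory.singleFunctor A 0).obj E) := by
  refine CptU.of_iso (singleIsoQ 0 E).symm ?_
  refine cptU_of_Q hQ (fun ι X c hc hc' f => ?_)
  let S₀ : CochainComplex A ℤ := (single A (ComplexShape.up ℤ) 0).obj E
  have : S₀.IsKProjective := by
    refine isKProjective_of_forall_projective S₀ 0 (fun i hi => ?_) (fun i => ?_)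
    · exact isZero_single_obj_X (ComplexShape.up ℤ) 0 E i (by lia)
    · by_cases h : i = 0
      · subst h
        exact Projective.of_iso (singleObjXSelf (ComplexShape.up ℤ) 0 E).symm inferInstance
      · exact (isZero_single_obj_X (ComplexShape.up ℤ) 0 E i h).projective
  obtain ⟨g, rfl⟩ := exists_Q_map_eq (K := S₀) f
  have hc₀ : IsColimit (Cofan.mk ((eval A (ComplexShape.up ℤ) 0).obj c.pt)
      (fun i => (eval A (ComplexShape.up ℤ) 0).map (c.inj i))) :=
    isColimitMapCofanOfPreserves (eval A (ComplexShape.up ℤ) 0) c hc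
  obtain ⟨t, ht⟩ := hE ι _ _ hc₀ ((singleObjXSelf (ComplexShape.up ℤ) 0 E).inv ≫ g.f 0)
  refine ⟨t, ?_⟩
  have hpr : (proj c hc t).f 0 = proj _ hc₀ t :=
    map_proj c hc (eval A (ComplexShape.up ℤ) 0) hc₀ t
  have ht' : ((singleObjXSelf (ComplexShape.up ℤ) 0 E).inv ≫ g.f 0) ≫ (proj c hc t).f 0 =
      (singleObjXSelf (ComplexShape.up ℤ) 0 E).inv ≫ g.f 0 := by
    rw [hpr]
    exact ht
  have hg : g ≫ proj c hc t = g := by
    apply from_single_hom_ext
    rw [comp_f, ← cancel_epi (singleObjXSelf (ComplexShape.up ℤ) 0 E).inv, ← Category.assoc]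
    exact ht'
  rw [← map_proj c hc Q hc' t, ← Functor.map_comp, hg]

end General

section Mod

variable (R : Type u) [CommRing R]

attribute [local instance] HasDerivedCategory.standard

open DerivedCategory Groth.Agent.Lib.Helper13.PC Groth.Agent.Lib.Helper13.DR

/-- Modules isomorphic to `R`. -/
def SR : Set (ModuleCat.{u} R) := {M | Nonempty (M ≅ ModuleCat.of R R)}

lemma qPres_mod : QPreservesCofans.{u} (A := ModuleCat.{u} R) := qPreservesCofans

lemma mem_iSup_range_of_isColimit_mod {ι : Type u} {Y : ι → ModuleCat.{u} R} (κ : Cofan Y)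
    (hκ : IsColimit κ) (x : κ.pt) : x ∈ ⨆ i, LinearMap.range (κ.inj i).hom := by
  let H : Submodule R κ.pt := ⨆ i, LinearMap.range (κ.inj i).hom
  let π : κ.pt ⟶ ModuleCat.of R (κ.pt ⧸ H) := ModuleCat.ofHom H.mkQ
  have h0 : π = 0 := by
    refine Cofan.IsColimit.hom_ext hκ _ _ (fun i => ?_)
    rw [comp_zero]
    ext y
    change H.mkQ ((κ.inj i).hom y) = 0
    rw [Submodule.mkQ_apply, Submodule.Quotient.mk_eq_zero]
    exact Submodule.mem_iSup_of_mem i ⟨y, rfl⟩
  have h1 : H.mkQ x = 0 := by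
    have := congrArg (fun f => f.hom x) h0
    exact this
  exact (Submodule.Quotient.mk_eq_zero H).1 h1

lemma exists_fix_elem {ι : Type u} {Y : ι → ModuleCat.{u} R} (κ : Cofan Y)
    (hκ : IsColimit κ) (x : κ.pt) : ∃ t : Finset ι, (proj κ hκ t).hom x = x := by
  classical
  refine Submodule.iSup_induction (p := fun i => LinearMap.range (κ.inj i).hom)
    (motive := fun x : κ.pt => ∃ t : Finset ι, (proj κ hκ t).hom x = x)
    (mem_iSup_range_of_isColimit_mod R κ hκ x) ?_ ?_ ?_
  · rintro i x ⟨y, rfl⟩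
    refine ⟨{i}, ?_⟩
    have := inj_proj_of_mem κ hκ (t := {i}) (i := i) (by simp)
    exact congrArg (fun f => f.hom y) this
  · exact ⟨∅, map_zero _⟩
  · rintro x y ⟨t, ht⟩ ⟨t', ht'⟩
    refine ⟨t ∪ t', ?_⟩
    have h1 : (proj κ hκ (t ∪ t')).hom x = x := by
      have := proj_comp_proj κ hκ (t := t) (t' := t ∪ t') Finset.subset_union_left
      have h2 := congrArg (fun f => f.hom x) this
      change (proj κ hκ (t ∪ t')).hom ((proj κ hκ t).hom x) = (proj κ hκ t).hom x at h2
      rw [ht] at h2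
      exact h2
    have h1' : (proj κ hκ (t ∪ t')).hom y = y := by
      have := proj_comp_proj κ hκ (t := t') (t' := t ∪ t') Finset.subset_union_right
      have h2 := congrArg (fun f => f.hom y) this
      change (proj κ hκ (t ∪ t')).hom ((proj κ hκ t').hom y) = (proj κ hκ t').hom y at h2
      rw [ht'] at h2
      exact h2
    rw [map_add, h1, h1']

lemma small_of_iso_self (E : ModuleCat.{u} R) (e : E ≅ ModuleCat.of R R)
    (ι : Type u) (F : ι → ModuleCat.{u} R) (c : Cofan F) (hc : IsColimit c) (g : E ⟶ c.pt) :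
    ∃ t : Finset ι, g ≫ proj c hc t = g := by
  obtain ⟨t, ht⟩ := exists_fix_elem R c hc (g.hom (e.inv.hom (1 : R)))
  refine ⟨t, ?_⟩
  rw [← cancel_epi e.inv]
  ext
  exact ht

lemma smallS_SR : SmallS.{u} (SR R) := fun E hE ι F c hc g => by
  obtain ⟨e⟩ := hE
  exact small_of_iso_self R E e ι F c hc g

lemma h1_SR : ∀ X : ModuleCat.{u} R, PCoh.IsOfFiniteType (BS.{u} (SR R)) X := by
  intro X
  let E : X → ModuleCat.{u} R := fun _ => ModuleCat.of R R
  let π : ∐ E ⟶ X := Sigma.desc (fun x => ModuleCat.ofHom (LinearMap.toSpanSingleton R X x))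
  refine ⟨∐ E, π, ⟨X, E, Sigma.ι E, ⟨coproductIsCoproduct E⟩, fun _ => ⟨Iso.refl _⟩⟩, ?_⟩
  rw [ModuleCat.epi_iff_surjective]
  intro x
  refine ⟨(Sigma.ι E x).hom (1 : R), ?_⟩
  have : Sigma.ι E x ≫ π = ModuleCat.ofHom (LinearMap.toSpanSingleton R X x) :=
    Sigma.ι_desc _ _
  have h2 := congrArg (fun f => f.hom (1 : R)) this
  change π.hom ((Sigma.ι E x).hom 1) = LinearMap.toSpanSingleton R X x 1 at h2
  rw [h2, LinearMap.toSpanSingleton_apply, one_smul]

/-- Perfect objects are compact. -/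
theorem cptU_of_isPerfect (K : Dual.D R) (hK : DRing.IsPerfect R K) : CptU.{u} K := by
  let W : ObjectProperty (DerivedCategory (ModuleCat.{u} R)) := fun K => CptU.{u} K
  have : W.IsClosedUnderIsomorphisms := ⟨fun e h => CptU.of_iso e h⟩
  refine prop_of_isPerfect_of_thick W ?_ (fun K n h => CptU.shift h n)
    (fun T hT h₁ h₃ => CptU.obj₂ T hT h₁ h₃)
    (fun X Y _ h => CptU.of_retract biprod.inl biprod.fst biprod.inl_fst h) K
    ((isPerfect_iff K).1 hK)
  have : Projective (ModuleCat.of R R) := ModuleCat.projective_of_free (ι := Unit)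
    (Module.Basis.singleton Unit R)
  exact cptU_single_of_small (qPres_mod R) (ModuleCat.of R R)
    (fun ι F c hc g => small_of_iso_self R _ (Iso.refl _) ι F c hc g)

/-- Compact objects are perfect. -/
theorem isPerfect_of_cptU (K : Dual.D R) (hK : CptU.{u} K) : DRing.IsPerfect R K := by
  obtain ⟨L, a, b, hz, hFS, ⟨ρ⟩⟩ :=
    exists_bounded_FS_retract (qPres_mod R) (h1_SR R) (smallS_SR R) hK
  have hL : DRing.IsPerfect R (Q.obj L) := by
    refine (isPerfect_iff _).2 ⟨L, a, b, hz, fun i => ?_, ⟨Iso.refl _⟩⟩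
    obtain ⟨n, E, hE, ⟨α⟩⟩ := hFS i
    have hE' : ∀ j, Pfp R (E j) := fun j => by
      obtain ⟨e⟩ := hE j
      exact (ObjectProperty.prop_iff_of_iso _ e).2
        ⟨Module.Finite.self R, inferInstanceAs (Module.Projective R R)⟩
    have key : Pfp R (⨁ E) := by
      have h1 : ∀ j, Module.Finite R (E j) := fun j => (hE' j).1
      have h2 : ∀ j, Module.Projective R (E j) := fun j => (hE' j).2
      refine (ObjectProperty.prop_iff_of_iso _ (ModuleCat.biproductIsoPi E)).2 ⟨?_, ?_⟩
      · change Module.Finite R (∀ j, E j)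
        infer_instance
      · change Module.Projective R (∀ j, E j)
        exact Module.Projective.of_equiv (DFinsupp.linearEquivFunOnFintype (R := R)
          (M := fun j => E j))
    exact (ObjectProperty.prop_iff_of_iso _ α).2 key
  -- retracts of perfect objects are perfect
  have hmono : Mono ρ.i := SplitMono.mono ⟨ρ.r, ρ.retract⟩
  obtain ⟨C, g, h, mem⟩ := Pretriangulated.distinguished_cocone_triangle ρ.i
  have hzero := Pretriangulated.Triangle.mor₃_eq_zero_of_mono₁ _ mem hmono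
  obtain ⟨e, -, -⟩ := Pretriangulated.exists_iso_binaryBiproduct_of_distTriang _ mem hzero
  have h' : DRing.IsPerfect R (K ⊞ C) := (isPerfect_iff _).2 (IsPerf.of_iso ((isPerfect_iff _).1 hL) e)
  exact (isPerf_of_biprod Pfp_prod hlift_Pfp hst_Pfp
    (fun E' E'' _ hE => ⟨Pfp_of_retract biprod.inl biprod.fst biprod.inl_fst hE,
      Pfp_of_retract biprod.inr biprod.snd biprod.inr_snd hE⟩) K C h').1

end Mod

end Groth.Agent.Lib.Helper2.CptD
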