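import Groth.Agent.Lib.Helper2.CptD.Proj
import Mathlib.Algebra.Category.Grp.Preadditive
import Mathlib.Algebra.Category.Grp.Colimits
import Mathlib.Algebra.Category.Grp.Limits
import Mathlib.CategoryTheory.Limits.Preserves.Shapes.Products
import Mathlib.CategoryTheory.ConcreteCategory.EpiMono

/-!
# An abelian-group valued additive functor preserves a coproduct as soon as every element of the
image of the point is fixed by a finite projector
-/

set_option autoImplicit false

universe w v u

open CategoryTheory CategoryTheory.Limits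

namespace Groth.Agent.Lib.Helper2.CptD

section Ab

lemma mem_iSup_range_of_isColimit_ab {ι : Type w} {Y : ι → AddCommGrpCat.{w}} (κ : Cofan Y)
    (hκ : IsColimit κ) (x : κ.pt) : x ∈ ⨆ i, (κ.inj i).hom.range := by
  let H : AddSubgroup κ.pt := ⨆ i, (κ.inj i).hom.range
  let π : κ.pt ⟶ AddCommGrpCat.of (κ.pt ⧸ H) := AddCommGrpCat.ofHom (QuotientAddGroup.mk' H)
  have h0 : π = 0 := by
    refine Cofan.IsColimit.hom_ext hκ _ _ (fun i => ?_)
    rw [comp_zero]
    ext y
    change (QuotientAddGroup.mk' H) ((κ.inj i).hom y) = 0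
    rw [QuotientAddGroup.mk'_apply, QuotientAddGroup.eq_zero_iff]
    exact AddSubgroup.mem_iSup_of_mem i ⟨y, rfl⟩
  have h1 : (QuotientAddGroup.mk' H) x = 0 := by
    have := congrArg (fun f => f.hom x) h0
    exact this
  exact (QuotientAddGroup.eq_zero_iff x).1 h1

end Ab

section Insert

variable {C : Type u} [Category.{v} C] [Preadditive C]
variable {ι : Type w} {Y : ι → C} (c : Cofan Y) (hc : IsColimit c)

lemma proj_insert [DecidableEq ι] {t : Finset ι} {i : ι} (hi : i ∉ t) :
    proj c hc (insert i t) = proj c hc t + cπ c hc i ≫ c.inj i := by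
  rw [proj_eq_sum, proj_eq_sum, Finset.sum_insert hi, add_comm]

end Insert

section Main

variable {A : Type u} [Category.{v} A] [Preadditive A]

/-- Every element of the point of a colimit cofan of abelian groups is fixed by a finite
projector. -/
lemma exists_fix_ab {ι : Type w} {Y : ι → AddCommGrpCat.{w}} (κ : Cofan Y)
    (hκ : IsColimit κ) (x : κ.pt) : ∃ t : Finset ι, (proj κ hκ t).hom x = x := by
  classical
  refine AddSubgroup.iSup_induction (C := fun x : κ.pt => ∃ t : Finset ι, (proj κ hκ t).hom x = x)
    _ (mem_iSup_range_of_isColimit_ab κ hκ x) ?_ ?_ ?_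
  · rintro i x ⟨y, rfl⟩
    refine ⟨{i}, ?_⟩
    have h := inj_proj_of_mem κ hκ (Finset.mem_singleton_self i)
    exact congrArg (fun f => f.hom y) h
  · exact ⟨∅, map_zero _⟩
  · rintro x y ⟨t, ht⟩ ⟨t', ht'⟩
    refine ⟨t ∪ t', ?_⟩
    have h1 : (proj κ hκ (t ∪ t')).hom x = x := by
      have := congrArg (fun f => f.hom x) (proj_comp_proj κ hκ (Finset.subset_union_left (s₁ := t) (s₂ := t')))
      change (proj κ hκ (t ∪ t')).hom ((proj κ hκ t).hom x) = (proj κ hκ t).hom x at this
      rw [ht] at this
      exact this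
    have h2 : (proj κ hκ (t ∪ t')).hom y = y := by
      have := congrArg (fun f => f.hom y) (proj_comp_proj κ hκ (Finset.subset_union_right (s₁ := t) (s₂ := t')))
      change (proj κ hκ (t ∪ t')).hom ((proj κ hκ t').hom y) = (proj κ hκ t').hom y at this
      rw [ht'] at this
      exact this
    rw [map_add, h1, h2]

/-- If every element of `G(c.pt)` is fixed by a finite projector, then `G` sends the colimit
cofan `c` to a colimit cofan. -/
theorem isColimit_map_of_fix (G : A ⥤ AddCommGrpCat.{w}) [G.Additive] {ι : Type w} {F : ι → A}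
    (c : Cofan F) (hc : IsColimit c)
    (h : ∀ s : G.obj c.pt, ∃ t : Finset ι, (G.map (proj c hc t)).hom s = s) :
    Nonempty (IsColimit (Cofan.mk (G.obj c.pt) (fun i => G.map (c.inj i)))) := by
  classical
  let Z : ι → AddCommGrpCat.{w} := fun i => G.obj (F i)
  let d : Cofan Z := Cofan.mk (∐ Z) (Sigma.ι Z)
  have hd : IsColimit d := coproductIsCoproduct Z
  let c' : Cofan Z := Cofan.mk (G.obj c.pt) (fun i => G.map (c.inj i))
  let φ : d.pt ⟶ G.obj c.pt := Cofan.IsColimit.desc hd (fun i => G.map (c.inj i))
  have hφ : ∀ i, d.inj i ≫ φ = G.map (c.inj i) := fun i => Cofan.IsColimit.fac hd _ i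
  have hpr : ∀ j, φ ≫ G.map (cπ c hc j) = cπ d hd j := by
    intro j
    refine Cofan.IsColimit.hom_ext hd _ _ (fun i => ?_)
    rw [reassoc_of% (hφ i), ← G.map_comp]
    by_cases hij : i = j
    · subst hij
      rw [inj_cπ_self, inj_cπ_self, G.map_id]
    · rw [inj_cπ_of_ne c hc hij, inj_cπ_of_ne d hd hij, G.map_zero]
  have hinj : Function.Injective φ.hom := by
    rw [injective_iff_map_eq_zero]
    intro x hx
    have hx' : ∀ j, (cπ d hd j).hom x = 0 := by
      intro j
      rw [← hpr j]
      change (G.map (cπ c hc j)).hom (φ.hom x) = 0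
      rw [hx, map_zero]
    obtain ⟨t, ht⟩ := exists_fix_ab d hd x
    have key : ∀ t : Finset ι, (proj d hd t).hom x = 0 := by
      intro t
      induction t using Finset.induction_on with
      | empty => rw [proj_empty]; rfl
      | insert i t hi ih =>
        rw [proj_insert d hd hi]
        change (proj d hd t).hom x + (d.inj i).hom ((cπ d hd i).hom x) = 0
        rw [ih, hx' i, map_zero, add_zero]
    rw [← ht, key t]
  have hsurj : Function.Surjective φ.hom := by
    have key : ∀ (t : Finset ι) (s : G.obj c.pt), (G.map (proj c hc t)).hom s ∈ φ.hom.range := by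
      intro t
      induction t using Finset.induction_on with
      | empty =>
        intro s
        rw [proj_empty, G.map_zero]
        exact zero_mem _
      | insert i t hi ih =>
        intro s
        rw [proj_insert c hc hi, G.map_add, G.map_comp]
        change (G.map (proj c hc t)).hom s + (G.map (c.inj i)).hom ((G.map (cπ c hc i)).hom s) ∈ _
        refine add_mem (ih s) ?_
        rw [← hφ i]
        exact ⟨(d.inj i).hom ((G.map (cπ c hc i)).hom s), rfl⟩
    intro s
    obtain ⟨t, ht⟩ := h s
    obtain ⟨x, hx⟩ := key t s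
    exact ⟨x, hx.trans ht⟩
  have hiso : IsIso φ := by
    rw [ConcreteCategory.isIso_iff_bijective]
    exact ⟨hinj, hsurj⟩
  refine ⟨IsColimit.ofIsoColimit hd (Cofan.ext (asIso φ) (fun i => ?_))⟩
  exact hφ i

/-- Functor version: preservation of coproducts of a given shape. -/
theorem preservesColimitsOfShape_discrete_of_fix (G : A ⥤ AddCommGrpCat.{w}) [G.Additive]
    (ι : Type w)
    (h : ∀ (F : ι → A) (c : Cofan F) (hc : IsColimit c) (s : G.obj c.pt),
      ∃ t : Finset ι, (G.map (proj c hc t)).hom s = s) :
    PreservesColimitsOfShape (Discrete ι) G := by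
  constructor
  intro K
  let F : ι → A := K.obj ∘ Discrete.mk
  have : PreservesColimit (Discrete.functor F) G := by
    constructor
    intro c hc
    let c₀ : Cofan F := c
    obtain ⟨h1⟩ := isColimit_map_of_fix G c₀ hc (h F c₀ hc)
    exact ⟨(isColimitMapCoconeCofanMkEquiv G F c₀.inj).symm h1 |>.ofIsoColimit
      (Cocone.ext (Iso.refl _) (fun j => by
        rcases j with ⟨j⟩
        simp [c₀, Cofan.inj]))⟩
  exact preservesColimit_of_iso_diagram G (Discrete.natIsoFunctor (F := K)).symm

end Main

end Groth.Agent.Lib.Helper2.CptD
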