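import Groth.Agent.Lib.Helper2.CptD.Resol

/-!
# Compact objects of `D(A)` are retracts of bounded complexes of finite sums of members of `S`
-/

set_option autoImplicit false

universe w' w v u

open CategoryTheory CategoryTheory.Limits HomologicalComplex ZeroObject

namespace Groth.Agent.Lib.Helper2.CptD

variable {A : Type u} [Category.{v} A] [Abelian A] [HasFiniteBiproducts A] {S : Set A}

/-- Members of `S` are "small": maps to coproducts factor through finite subcoproducts. -/
def SmallS (S : Set A) : Prop :=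
  ∀ E ∈ S, ∀ (ι : Type w') (F : ι → A) (c : Cofan F) (hc : IsColimit c) (g : E ⟶ c.pt),
    ∃ t : Finset ι, g ≫ proj c hc t = g

section Image

variable {Λ : Type w'} {E : Λ → A} (κ : Cofan E) (hκ : IsColimit κ) (t : Finset Λ)

/-- The index of the `j`-th element of `t`. -/
noncomputable def idx (j : Fin t.card) : Λ := (t.equivFin.symm j).1

lemma idx_mem (j : Fin t.card) : idx t j ∈ t := (t.equivFin.symm j).2

lemma idx_injective : Function.Injective (idx t) := fun j k h =>
  t.equivFin.symm.injective (Subtype.ext h)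

lemma exists_idx {i : Λ} (hi : i ∈ t) : ∃ j, idx t j = i :=
  ⟨t.equivFin ⟨i, hi⟩, by simp [idx]⟩

/-- The inclusion of the finite subsum indexed by `t`. -/
noncomputable def uMap : (⨁ fun j : Fin t.card => E (idx t j)) ⟶ κ.pt :=
  biproduct.desc (fun j => κ.inj (idx t j))

/-- The projection onto the finite subsum indexed by `t`. -/
noncomputable def vMap : κ.pt ⟶ ⨁ fun j : Fin t.card => E (idx t j) :=
  biproduct.lift (fun j => cπ κ hκ (idx t j))

lemma uMap_vMap : uMap κ t ≫ vMap κ hκ t = 𝟙 _ := by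
  apply biproduct.hom_ext
  intro k
  apply biproduct.hom_ext'
  intro j
  rw [uMap, vMap, Category.assoc, biproduct.lift_π, biproduct.ι_desc_assoc, Category.id_comp]
  by_cases h : j = k
  · subst h
    rw [inj_cπ_self, biproduct.ι_π_self]
  · rw [inj_cπ_of_ne κ hκ (fun h' => h (idx_injective t h')), biproduct.ι_π_ne _ h]

lemma inj_vMap_of_not_mem {i : Λ} (hi : i ∉ t) : κ.inj i ≫ vMap κ hκ t = 0 := by
  apply biproduct.hom_ext
  intro k
  rw [vMap, Category.assoc, biproduct.lift_π, zero_comp,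
    inj_cπ_of_ne κ hκ (fun h => hi (by rw [h]; exact idx_mem t k))]

lemma inj_idx_vMap (j : Fin t.card) :
    κ.inj (idx t j) ≫ vMap κ hκ t = biproduct.ι (fun j : Fin t.card => E (idx t j)) j := by
  apply biproduct.hom_ext
  intro k
  rw [vMap, Category.assoc, biproduct.lift_π]
  by_cases h : j = k
  · subst h
    rw [inj_cπ_self, biproduct.ι_π_self]
  · rw [inj_cπ_of_ne κ hκ (fun h' => h (idx_injective t h')), biproduct.ι_π_ne _ h]

lemma vMap_uMap : vMap κ hκ t ≫ uMap κ t = proj κ hκ t := by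
  refine Cofan.IsColimit.hom_ext hκ _ _ (fun i => ?_)
  by_cases hi : i ∈ t
  · obtain ⟨j, rfl⟩ := exists_idx t hi
    rw [inj_proj_of_mem κ hκ hi, ← Category.assoc, inj_idx_vMap, uMap, biproduct.ι_desc]
  · rw [inj_proj_of_not_mem κ hκ hi, ← Category.assoc, inj_vMap_of_not_mem κ hκ t hi, zero_comp]

end Image

variable [HasDerivedCategory.{w} A]

open DerivedCategory Groth.Agent.Lib.Helper13.PC

/-- The inductive step: making one more term a finite sum of members of `S`. -/
theorem exists_finite_step (hQ : QPreservesCofans.{w'} (A := A)) (h2 : SmallS.{w'} S)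
    {K : DerivedCategory A} (hK : CptU.{w'} K) (L : CochainComplex A ℤ) (c : ℤ)
    (hL1 : FS S (L.X (c - 1))) (hL2 : BS.{w'} S (L.X c)) (φ : K ⟶ Q.obj L) :
    ∃ (L' : CochainComplex A ℤ) (i : L' ⟶ L) (φ' : K ⟶ Q.obj L'), φ' ≫ Q.map i = φ ∧
      (∀ k : ℤ, k ≠ c → IsIso (i.f k)) ∧ (∀ k : ℤ, Mono (i.f k)) ∧ FS S (L'.X c) := by
  classical
  obtain ⟨Λ, E, inj, ⟨hκ⟩, hE⟩ := hL2
  obtain ⟨m, F, hF, ⟨α⟩⟩ := hL1
  let κ : Cofan E := Cofan.mk (L.X c) inj
  obtain ⟨p, hp⟩ : ∃ p : Finset Λ → (L.X c ⟶ L.X c), ∀ t, p t = proj κ hκ t :=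
    ⟨fun t => proj κ hκ t, fun t => rfl⟩
  have p_mono : ∀ {t t' : Finset Λ}, t ⊆ t' → ∀ {W : A} (f : W ⟶ L.X c), f ≫ p t = f →
      f ≫ p t' = f := by
    intro t t' h W f hf
    rw [hp] at hf ⊢
    exact fix_mono κ hκ h f hf
  have p_sub : ∀ {t t' : Finset Λ}, t ⊆ t' →
      (𝟙 (L.X c) - p t) ≫ (𝟙 (L.X c) - p t') = 𝟙 (L.X c) - p t' := by
    intro t t' h
    rw [hp, hp]
    exact one_sub_proj_comp κ hκ h
  have p_idem : ∀ t : Finset Λ, p t ≫ p t = p t := by
    intro t
    rw [hp]
    exact proj_comp_proj κ hκ subset_rfl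
  -- Step 1
  have h1 : ∀ j : Fin m, ∃ tj : Finset Λ,
      (biproduct.ι F j ≫ α.inv ≫ L.d (c - 1) c) ≫ p tj =
        biproduct.ι F j ≫ α.inv ≫ L.d (c - 1) c := fun j => by
    obtain ⟨tj, htj⟩ := h2 (F j) (hF j) Λ E κ hκ
      (biproduct.ι F j ≫ α.inv ≫ L.d (c - 1) c : F j ⟶ κ.pt)
    exact ⟨tj, by rw [hp]; exact htj⟩
  choose tj htj using h1
  let t₀ : Finset Λ := Finset.univ.biUnion tj
  have hd : ∀ t : Finset Λ, t₀ ⊆ t → L.d (c - 1) c ≫ p t = L.d (c - 1) c := by
    intro t ht
    rw [← cancel_epi α.inv]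
    apply biproduct.hom_ext'
    intro j
    have := p_mono (t := tj j) (t' := t)
      ((Finset.subset_biUnion_of_mem tj (Finset.mem_univ j)).trans ht) _ (htj j)
    simpa only [Category.assoc] using this
  have hd' : ∀ t : Finset Λ, t₀ ⊆ t → ∀ i : ℤ, (ComplexShape.up ℤ).Rel i c →
      L.d i c ≫ (𝟙 (L.X c) - p t) = 0 := by
    intro t ht i hi
    obtain rfl : i = c - 1 := by
      simp only [ComplexShape.up_Rel] at hi
      lia
    rw [Preadditive.comp_sub, Category.comp_id, hd t ht, sub_self]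
  -- Step 2
  let πt : ∀ t : Finset Λ, t₀ ⊆ t → (L ⟶ (single A (ComplexShape.up ℤ) c).obj (L.X c)) :=
    fun t ht => mkHomToSingle (𝟙 (L.X c) - p t) (hd' t ht)
  have hs : IsColimit (Cofan.mk ((single A (ComplexShape.up ℤ) c).obj κ.pt)
      (fun i => (single A (ComplexShape.up ℤ) c).map (κ.inj i))) := singleIsColimit c κ hκ
  obtain ⟨hs'⟩ := hQ _ _ _ hs
  obtain ⟨t₁, ht₁⟩ := hK _ _ _ hs' (φ ≫ Q.map (πt t₀ subset_rfl))
  let t : Finset Λ := t₀ ∪ t₁
  have ht0 : t₀ ⊆ t := Finset.subset_union_left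
  have hQproj : Q.map ((single A (ComplexShape.up ℤ) c).map (p t)) = proj _ hs' t := by
    rw [hp, map_proj κ hκ (single A (ComplexShape.up ℤ) c) hs t]
    exact map_proj _ hs Q hs' t
  have hπfac : πt t ht0 = πt t₀ subset_rfl ≫
      (single A (ComplexShape.up ℤ) c).map (𝟙 (L.X c) - p t) := by
    apply to_single_hom_ext
    rw [comp_f, mkHomToSingle_f, mkHomToSingle_f, single_map_f_self, Category.assoc,
      Iso.inv_hom_id_assoc, ← Category.assoc, p_sub ht0]
  have hφπ : φ ≫ Q.map (πt t ht0) = 0 := by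
    rw [hπfac, Functor.map_comp, ← Category.assoc, Functor.map_sub, Functor.map_sub,
      CategoryTheory.Functor.map_id, CategoryTheory.Functor.map_id, hQproj, Preadditive.comp_sub, Category.comp_id,
      fix_mono _ hs' Finset.subset_union_right _ ht₁, sub_self]
  -- Step 3
  have hee : p t ≫ p t = p t := p_idem t
  let m' : kernel (p t) ⟶ L.X c := kernel.ι (p t)
  let r : L.X c ⟶ kernel (p t) := kernel.lift (p t) (𝟙 _ - p t) (by
    rw [Preadditive.sub_comp, Category.id_comp, hee, sub_self])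
  have hrm : r ≫ m' = 𝟙 _ - p t := kernel.lift_ι _ _ _
  have hmr : m' ≫ r = 𝟙 _ := by
    rw [← cancel_mono m', Category.assoc, hrm, Preadditive.comp_sub, Category.comp_id,
      kernel.condition, sub_zero, Category.id_comp]
  have hdr : ∀ i : ℤ, (ComplexShape.up ℤ).Rel i c → L.d i c ≫ r = 0 := by
    intro i hi
    rw [← cancel_mono m', Category.assoc, hrm, zero_comp]
    exact hd' t ht0 i hi
  let π' : L ⟶ (single A (ComplexShape.up ℤ) c).obj (kernel (p t)) := mkHomToSingle r hdr
  have hπ' : ∀ k : ℤ, Epi (π'.f k) := by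
    intro k
    by_cases h : k = c
    · subst h
      have : IsSplitEpi r := ⟨⟨m', hmr⟩⟩
      rw [mkHomToSingle_f]
      infer_instance
    · exact ⟨fun _ _ _ =>
        (isZero_single_obj_X (ComplexShape.up ℤ) c (kernel (p t)) k h).eq_of_src _ _⟩
  have hπ'fac : πt t ht0 = π' ≫ (single A (ComplexShape.up ℤ) c).map m' := by
    apply to_single_hom_ext
    rw [comp_f, mkHomToSingle_f, mkHomToSingle_f, single_map_f_self, Category.assoc,
      Iso.inv_hom_id_assoc, ← Category.assoc, hrm]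
  have hφπ' : φ ≫ Q.map π' = 0 := by
    have h1 : Q.map ((single A (ComplexShape.up ℤ) c).map m') ≫
        Q.map ((single A (ComplexShape.up ℤ) c).map r) = 𝟙 _ := by
      rw [← Functor.map_comp, ← Functor.map_comp, hmr, CategoryTheory.Functor.map_id, CategoryTheory.Functor.map_id]
    calc φ ≫ Q.map π' = (φ ≫ Q.map π') ≫ Q.map ((single A (ComplexShape.up ℤ) c).map m') ≫
          Q.map ((single A (ComplexShape.up ℤ) c).map r) := by rw [h1, Category.comp_id]
      _ = (φ ≫ Q.map (πt t ht0)) ≫ Q.map ((single A (ComplexShape.up ℤ) c).map r) := by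
          rw [hπ'fac, Functor.map_comp]
          simp only [Category.assoc]
      _ = 0 := by rw [hφπ, zero_comp]
  obtain ⟨φ', hφ'⟩ := exists_lift_kernel π' hπ' φ hφπ'
  refine ⟨kernel π', kernel.ι π', φ', hφ', fun k hk => ?_, fun k => ?_, ?_⟩
  · exact isIso_kernel_ι_f π' hπ' k
      (isZero_single_obj_X (ComplexShape.up ℤ) c (kernel (p t)) k hk)
  · exact (kernel_shortExact_eval π' hπ' k).mono_f
  -- Step 4
  · have hker := kernelIsKernelEval π' hπ' c
    let ic : (kernel π').X c ⟶ L.X c := (kernel.ι π').f c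
    have hic0 : ic ≫ π'.f c = 0 := by
      rw [← comp_f, kernel.condition, zero_f]
    have hicr : ic ≫ r = 0 := by
      have := hic0
      rw [mkHomToSingle_f, ← Category.assoc] at this
      rw [← cancel_mono (singleObjXSelf (ComplexShape.up ℤ) c (kernel (p t))).inv, this,
        zero_comp]
    have hice : ic ≫ p t = ic := by
      have : ic ≫ (𝟙 _ - p t) = 0 := by rw [← hrm, reassoc_of% hicr, zero_comp]
      rw [Preadditive.comp_sub, Category.comp_id, sub_eq_zero] at this
      exact this.symm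
    let u : (⨁ fun j : Fin t.card => E (idx t j)) ⟶ L.X c := uMap κ t
    let v : L.X c ⟶ (⨁ fun j : Fin t.card => E (idx t j)) := vMap κ hκ t
    have huv : u ≫ v = 𝟙 _ := uMap_vMap κ hκ t
    have hvu : v ≫ u = p t := by
      rw [hp]
      exact vMap_uMap κ hκ t
    have hur : u ≫ r = 0 := by
      rw [← cancel_mono m', Category.assoc, hrm, zero_comp, Preadditive.comp_sub,
        Category.comp_id, ← hvu, reassoc_of% huv, sub_self]
    have hu0 : u ≫ π'.f c = 0 := by
      rw [mkHomToSingle_f, reassoc_of% hur, zero_comp]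
    let û : (⨁ fun j : Fin t.card => E (idx t j)) ⟶ (kernel π').X c :=
      hker.lift (KernelFork.ofι u hu0)
    have hû : û ≫ ic = u := Fork.IsLimit.lift_ι hker
    refine ⟨t.card, fun j => E (idx t j), fun j => hE _, ⟨?_⟩⟩
    exact
      { hom := ic ≫ v
        inv := û
        hom_inv_id := by
          apply Fork.IsLimit.hom_ext hker
          change ((ic ≫ v) ≫ û) ≫ ic = 𝟙 _ ≫ ic
          rw [Category.assoc, hû, Category.assoc, hvu, hice, Category.id_comp]
        inv_hom_id := by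
          rw [reassoc_of% hû, huv] }

/-- **Core theorem**: compact objects of `D(A)` are retracts of bounded complexes of finite
direct sums of members of `S`. -/
theorem exists_bounded_FS_retract (hQ : QPreservesCofans.{w'} (A := A))
    (h1 : ∀ X : A, PCoh.IsOfFiniteType (BS.{w'} S) X) (h2 : SmallS.{w'} S)
    {K : DerivedCategory A} (hK : CptU.{w'} K) :
    ∃ (L : CochainComplex A ℤ) (a b : ℤ), (∀ i : ℤ, i < a ∨ b < i → IsZero (L.X i)) ∧
      (∀ i : ℤ, FS S (L.X i)) ∧ Nonempty (Retract K (Q.obj L)) := by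
  obtain ⟨L₀, a, b, hz₀, hBS₀, ⟨ρ₀⟩⟩ := exists_bounded_BS_retract hQ h1 hK
  have key : ∀ n : ℕ, ∃ L : CochainComplex A ℤ, (∀ i : ℤ, i < a ∨ b < i → IsZero (L.X i)) ∧
      (∀ i : ℤ, i < a + n → FS S (L.X i)) ∧ (∀ i : ℤ, a + n ≤ i → BS.{w'} S (L.X i)) ∧
      Nonempty (Retract K (Q.obj L)) := by
    intro n
    induction n with
    | zero =>
      exact ⟨L₀, hz₀, fun i hi => FS.of_isZero S (hz₀ i (Or.inl (by simpa using hi))),
        fun i _ => hBS₀ i, ⟨ρ₀⟩⟩
    | succ n ih =>
      obtain ⟨L, hz, hFS, hBS, ⟨ρ⟩⟩ := ih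
      obtain ⟨L', i, φ', hφ', hiso, hmono, hc⟩ := exists_finite_step hQ h2 hK L (a + n)
        (hFS _ (by lia)) (hBS _ le_rfl) ρ.i
      have e : ∀ k : ℤ, k ≠ a + n → (L'.X k ≅ L.X k) := fun k hk =>
        @asIso _ _ _ _ _ (hiso k hk)
      refine ⟨L', fun k hk => ?_, fun k hk => ?_, fun k hk => ?_, ⟨?_⟩⟩
      · have := hmono k
        exact IsZero.of_mono (i.f k) (hz k hk)
      · by_cases h : k = a + n
        · subst h; exact hc
        · exact FS.of_iso S (e k h).symm (hFS k (by push_cast at hk; lia))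
      · have h : k ≠ a + n := by push_cast at hk; lia
        exact BS.of_iso S (e k h).symm (hBS k (by push_cast at hk; lia))
      · exact
          { i := φ'
            r := Q.map i ≫ ρ.r
            retract := by rw [reassoc_of% hφ', ρ.retract] }
  obtain ⟨L, hz, hFS, -, hρ⟩ := key (b + 1 - a).toNat
  refine ⟨L, a, b, hz, fun i => ?_, hρ⟩
  by_cases h : i < a ∨ b < i
  · exact FS.of_isZero S (hz i h)
  · exact hFS i (by
      have : a ≤ i ∧ i ≤ b := by lia
      rw [Int.toNat_of_nonneg (by lia)]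
      lia)

end Groth.Agent.Lib.Helper2.CptD
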