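import Groth.Agent.Lib.Helper2.CptD.Compact

/-!
# `CohDer.IsCompactObject` versus `CptU`
-/

set_option autoImplicit false

universe v u

open CategoryTheory CategoryTheory.Limits

namespace Groth.Agent.Lib.Helper2.CptD

variable {D : Type u} [Category.{v} D] [Preadditive D] [HasCoproducts.{v} D]

lemma isCompactObject_of_cptU {K : D} (hK : CptU.{v} K) : CohDer.IsCompactObject K := by
  intro ι Y
  refine ⟨injective_homSumToHomCoprod K Y, fun f => ?_⟩
  obtain ⟨t, ht⟩ := hK ι Y (sigmaCofan Y) (coproductIsCoproduct Y) f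
  exact mem_range_homSumToHomCoprod K Y f t ht

lemma cptU_of_isCompactObject {K : D} (hK : CohDer.IsCompactObject K) : CptU.{v} K := by
  intro ι Y c hc f
  let e := IsColimit.coconePointUniqueUpToIso hc (coproductIsCoproduct Y)
  obtain ⟨x, hx⟩ := (hK ι Y).2 (f ≫ e.hom)
  obtain ⟨t, ht⟩ := exists_fix_homSumToHomCoprod K Y x
  refine ⟨t, fix_transport c _ hc (coproductIsCoproduct Y) f t ?_⟩
  rw [hx] at ht
  exact ht

end Groth.Agent.Lib.Helper2.CptD
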