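import Groth.Agent.Lib.Helper2.CptD.Proj
import Groth.Agent.Lib.Helper13.PCProj

/-!
# Complexes: zero-differential complexes as coproducts of singles, kernels of degreewise epis,
and the "opcycles trick" for compact objects of `D(A)`.
-/

set_option autoImplicit false

universe w' w v u

open CategoryTheory CategoryTheory.Limits HomologicalComplex

namespace Groth.Agent.Lib.Helper2.CptD

variable {A : Type u} [Category.{v} A] [Abelian A]

section ZCx

/-- The complex with terms `M i` and zero differential. -/
def zCx (M : ℤ → A) : CochainComplex A ℤ where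
  X := M
  d _ _ := 0
  shape := by intros; rfl
  d_comp_d' := by intros; simp

@[simp] lemma zCx_d (M : ℤ → A) (i j : ℤ) : (zCx M).d i j = 0 := rfl

/-- Inclusion of the `i`-th term. -/
noncomputable def zInj (M : ℤ → A) (i : ℤ) :
    (single A (ComplexShape.up ℤ) i).obj (M i) ⟶ zCx M :=
  mkHomFromSingle (K := zCx M) (𝟙 (M i)) (fun _ _ => by simp)

/-- Projection onto the `j`-th term. -/
noncomputable def zPr (M : ℤ → A) (j : ℤ) :
    zCx M ⟶ (single A (ComplexShape.up ℤ) j).obj (M j) :=
  mkHomToSingle (K := zCx M) (𝟙 (M j)) (fun _ _ => by simp)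

lemma zInj_f (M : ℤ → A) (i : ℤ) :
    (zInj M i).f i = (singleObjXSelf (ComplexShape.up ℤ) i (M i)).hom := by
  rw [zInj, mkHomFromSingle_f]
  exact Category.comp_id _

lemma zPr_f (M : ℤ → A) (j : ℤ) :
    (zPr M j).f j = (singleObjXSelf (ComplexShape.up ℤ) j (M j)).inv := by
  rw [zPr, mkHomToSingle_f]
  exact Category.id_comp _

lemma zInj_zPr_of_ne (M : ℤ → A) {i j : ℤ} (h : i ≠ j) : zInj M i ≫ zPr M j = 0 := by
  apply from_single_hom_ext
  exact (isZero_single_obj_X (ComplexShape.up ℤ) j (M j) i h).eq_of_tgt _ _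

/-- The zero-differential complex is the coproduct of its terms. -/
noncomputable def zIsColimit (M : ℤ → A) :
    IsColimit (Cofan.mk (zCx M) (fun i : ULift.{w'} ℤ => zInj M i.down)) :=
  Cofan.IsColimit.mk _
    (fun s =>
      { f := fun i => (singleObjXSelf (ComplexShape.up ℤ) i (M i)).inv ≫ (s.inj ⟨i⟩).f i
        comm' := fun i j _ => by
          have h1 : ((singleObjXSelf (ComplexShape.up ℤ) i (M i)).inv ≫ (s.inj ⟨i⟩).f i) ≫
              s.pt.d i j = 0 := by
            rw [Category.assoc, (s.inj ⟨i⟩).comm, single_obj_d, zero_comp, comp_zero]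
          exact h1.trans (by exact zero_comp.symm) })
    (fun s i => by
      apply from_single_hom_ext
      change (zInj M i.down).f i.down ≫
        ((singleObjXSelf (ComplexShape.up ℤ) i.down (M i.down)).inv ≫ (s.inj ⟨i.down⟩).f i.down) =
        (s.inj i).f i.down
      rw [zInj_f, Iso.hom_inv_id_assoc])
    (fun s m hm => by
      ext i
      have := congrArg (fun z => z.f i) (hm ⟨i⟩)
      change (zInj M i).f i ≫ m.f i = (s.inj ⟨i⟩).f i at this
      rw [zInj_f] at this
      exact ((Iso.inv_comp_eq _).2 this.symm).symm)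

/-- The canonical map from a complex to the zero-differential complex of its opcycles. -/
noncomputable def toZ (X : CochainComplex A ℤ) : X ⟶ zCx (fun i => X.opcycles i) where
  f i := X.pOpcycles i
  comm' i j _ := by
    rw [zCx_d, comp_zero]
    exact (X.d_pOpcycles i j).symm

open Groth.Agent.Lib.Helper13.PC in
lemma toZ_zPr (X : CochainComplex A ℤ) (j : ℤ) :
    toZ X ≫ zPr (fun i => X.opcycles i) j = toSingleOpcycles X j := by
  apply to_single_hom_ext
  rw [comp_f, zPr_f, toSingleOpcycles_f]
  rfl

end ZCx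

section SingleColimit

/-- The single functors preserve colimit cofans. -/
noncomputable def singleIsColimit (j : ℤ) {ι : Type w'} {E : ι → A} (c : Cofan E)
    (hc : IsColimit c) :
    IsColimit (Cofan.mk ((single A (ComplexShape.up ℤ) j).obj c.pt)
      (fun i => (single A (ComplexShape.up ℤ) j).map (c.inj i))) :=
  Cofan.IsColimit.mk _
    (fun s => mkHomFromSingle
      (Cofan.IsColimit.desc hc
        (fun i => (singleObjXSelf (ComplexShape.up ℤ) j (E i)).inv ≫ (s.inj i).f j))
      (fun k _ => by
        refine Cofan.IsColimit.hom_ext hc _ _ (fun i => ?_)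
        rw [Cofan.IsColimit.fac_assoc, Category.assoc, (s.inj i).comm, single_obj_d,
          zero_comp, comp_zero, comp_zero]))
    (fun s i => by
      apply from_single_hom_ext
      change ((single A (ComplexShape.up ℤ) j).map (c.inj i)).f j ≫ _ = _
      rw [mkHomFromSingle_f, single_map_f_self, Category.assoc, Category.assoc,
        Iso.inv_hom_id_assoc, Cofan.IsColimit.fac, Iso.hom_inv_id_assoc])
    (fun s m hm => by
      apply from_single_hom_ext
      rw [mkHomFromSingle_f]
      rw [← cancel_epi (singleObjXSelf (ComplexShape.up ℤ) j c.pt).inv, Iso.inv_hom_id_assoc]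
      refine Cofan.IsColimit.hom_ext hc _ _ (fun i => ?_)
      rw [Cofan.IsColimit.fac]
      have := congrArg (fun z => z.f j) (hm i)
      change ((single A (ComplexShape.up ℤ) j).map (c.inj i)).f j ≫ m.f j = (s.inj i).f j at this
      rw [single_map_f_self, Category.assoc, Category.assoc] at this
      rw [← this, Iso.inv_hom_id_assoc])

end SingleColimit

section Kernel

variable {X Y : CochainComplex A ℤ} (f : X ⟶ Y) (hf : ∀ i, Epi (f.f i))

include hf in
lemma kernel_shortExact :
    (ShortComplex.mk (kernel.ι f) f (kernel.condition f)).ShortExact := by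
  have : Epi f := HomologicalComplex.epi_of_epi_f f hf
  exact
    { exact := ShortComplex.exact_kernel f
      mono_f := inferInstanceAs (Mono (kernel.ι f))
      epi_g := inferInstanceAs (Epi f) }

include hf in
lemma kernel_shortExact_eval (k : ℤ) :
    ((ShortComplex.mk (kernel.ι f) f (kernel.condition f)).map
      (HomologicalComplex.eval A (ComplexShape.up ℤ) k)).ShortExact :=
  (kernel_shortExact f hf).map_of_exact _

include hf in
lemma isIso_kernel_ι_f (k : ℤ) (hY : IsZero (Y.X k)) : IsIso ((kernel.ι f).f k) :=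
  (kernel_shortExact_eval f hf k).isIso_f_iff.2 hY

include hf in
lemma isZero_kernel_X (k : ℤ) (h : IsIso (f.f k)) : IsZero ((kernel f).X k) :=
  (kernel_shortExact_eval f hf k).isIso_g_iff.1 h

include hf in
/-- In each degree, the kernel complex is the kernel. -/
noncomputable def kernelIsKernelEval (k : ℤ) :
    IsLimit (KernelFork.ofι ((kernel.ι f).f k)
      (show (kernel.ι f).f k ≫ f.f k = 0 by
        rw [← comp_f, kernel.condition, zero_f])) :=
  (kernel_shortExact_eval f hf k).fIsKernel

variable [HasDerivedCategory.{w} A]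

open DerivedCategory in
include hf in
lemma exists_lift_kernel {K : DerivedCategory A} (φ : K ⟶ Q.obj X) (h : φ ≫ Q.map f = 0) :
    ∃ φ' : K ⟶ Q.obj (kernel f), φ' ≫ Q.map (kernel.ι f) = φ := by
  have hS := kernel_shortExact f hf
  have hT := DerivedCategory.triangleOfSES_distinguished hS
  obtain ⟨φ', hφ'⟩ := Pretriangulated.Triangle.coyoneda_exact₂ _ hT φ h
  exact ⟨φ', hφ'.symm⟩

end Kernel

section Trick

variable [HasDerivedCategory.{w} A]

open DerivedCategory Groth.Agent.Lib.Helper13.PC

/-- `Q` sends colimit cofans indexed by types in `Type w'` to colimit cofans. -/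
def QPreservesCofans : Prop :=
  ∀ (J : Type w') (X : J → CochainComplex A ℤ) (c : Cofan X), IsColimit c →
    Nonempty (IsColimit (Cofan.mk ((Q (C := A)).obj c.pt) (fun j => Q.map (c.inj j))))

/-- The opcycles trick: a map from a compact object to `Q(X)` is killed by almost all the
canonical maps `X ⟶ (X^j/B^j)[-j]`. -/
theorem exists_finset_comp_toSingleOpcycles_eq_zero (hQ : QPreservesCofans.{w'} (A := A))
    {K : DerivedCategory A} (hK : CptU.{w'} K) (X : CochainComplex A ℤ) (θ : K ⟶ Q.obj X) :
    ∃ t : Finset ℤ, ∀ j : ℤ, j ∉ t → θ ≫ Q.map (toSingleOpcycles X j) = 0 := by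
  classical
  let M : ℤ → A := fun i => X.opcycles i
  let c := Cofan.mk (zCx M) (fun i : ULift.{w'} ℤ => zInj M i.down)
  have hc : IsColimit c := zIsColimit M
  obtain ⟨hc'⟩ := hQ _ _ c hc
  obtain ⟨t, ht⟩ := hK _ _ _ hc' (θ ≫ Q.map (toZ X))
  refine ⟨t.image ULift.down, fun j hj => ?_⟩
  have hj' : (ULift.up j : ULift.{w'} ℤ) ∉ t := fun h => hj (Finset.mem_image.2 ⟨_, h, rfl⟩)
  have h0 : proj _ hc' t ≫ Q.map (zPr M j) = 0 := by
    refine Cofan.IsColimit.hom_ext hc' _ _ (fun i => ?_)
    rw [comp_zero]
    by_cases hi : i ∈ t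
    · rw [inj_proj_of_mem_assoc _ hc' hi]
      change Q.map (zInj M i.down) ≫ Q.map (zPr M j) = 0
      rw [← Q.map_comp, zInj_zPr_of_ne M (fun h => hj' (by rw [← h]; exact hi)), Functor.map_zero]
    · rw [inj_proj_of_not_mem_assoc _ hc' hi, zero_comp]
  rw [← toZ_zPr, Functor.map_comp, ← Category.assoc, ← ht, Category.assoc, Category.assoc, h0,
    comp_zero, comp_zero]

/-- If the canonical map `X ⟶ (X^j/B^j)[-j]` vanishes in `D(A)` then `H^j(X) = 0`. -/
lemma isZero_homology_of_Q_map_toSingleOpcycles_eq_zero (X : CochainComplex A ℤ) (j : ℤ)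
    (h : Q.map (toSingleOpcycles X j) = 0) : IsZero (X.homology j) := by
  have he : toSingleOfOpcycles X j (𝟙 _) = toSingleOpcycles X j := by
    apply to_single_hom_ext
    rw [toSingleOfOpcycles_f, toSingleOpcycles_f, Category.id_comp]
  have hm : Mono (homologyMap (toSingleOpcycles X j) j) := by
    rw [← he]
    exact mono_homologyMap_toSingleOfOpcycles X j (𝟙 _) (by rw [Category.comp_id]; infer_instance)
  have hm' : Mono ((DerivedCategory.homologyFunctor A j).map (Q.map (toSingleOpcycles X j))) :=
    (mono_homologyFunctor_map_Q_iff _ j).2 hm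
  rw [h, Functor.map_zero] at hm'
  exact (@IsZero.of_mono_zero _ _ _ _ _ hm').of_iso (homologyQIso X j).symm

end Trick

end Groth.Agent.Lib.Helper2.CptD
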