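import Mathlib.CategoryTheory.Limits.Shapes.Products
import Mathlib.CategoryTheory.Limits.Shapes.Biproducts
import Mathlib.CategoryTheory.Limits.Preserves.Shapes.Products
import Mathlib.CategoryTheory.Triangulated.Pretriangulated
import Mathlib.CategoryTheory.Preadditive.AdditiveFunctor

/-!
# Finite projectors on colimit cofans and compact objects (relative to an index universe)
-/

set_option autoImplicit false

universe w' v u

open CategoryTheory CategoryTheory.Limits

namespace Groth.Agent.Lib.Helper2.CptD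

section Zero

variable {C : Type u} [Category.{v} C] [HasZeroMorphisms C]
variable {ι : Type w'} {Y : ι → C} (c : Cofan Y) (hc : IsColimit c)

open Classical in
/-- The projection of a colimit cofan onto a component. -/
noncomputable def cπ (j : ι) : c.pt ⟶ Y j :=
  Cofan.IsColimit.desc hc (fun i => if h : i = j then eqToHom (by rw [h]) else 0)

@[reassoc (attr := simp)]
lemma inj_cπ_self (j : ι) : c.inj j ≫ cπ c hc j = 𝟙 _ := by
  simp [cπ]

@[reassoc]
lemma inj_cπ_of_ne {i j : ι} (h : i ≠ j) : c.inj i ≫ cπ c hc j = 0 := by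
  simp [cπ, h]

open Classical in
/-- The idempotent of a colimit cofan attached to a finite set of indices. -/
noncomputable def proj (t : Finset ι) : c.pt ⟶ c.pt :=
  Cofan.IsColimit.desc hc (fun i => if i ∈ t then c.inj i else 0)

@[reassoc]
lemma inj_proj_of_mem {t : Finset ι} {i : ι} (hi : i ∈ t) : c.inj i ≫ proj c hc t = c.inj i := by
  simp [proj, hi]

@[reassoc]
lemma inj_proj_of_not_mem {t : Finset ι} {i : ι} (hi : i ∉ t) : c.inj i ≫ proj c hc t = 0 := by
  simp [proj, hi]

lemma proj_comp_proj {t t' : Finset ι} (h : t ⊆ t') :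
    proj c hc t ≫ proj c hc t' = proj c hc t := by
  refine Cofan.IsColimit.hom_ext hc _ _ (fun i => ?_)
  by_cases hi : i ∈ t
  · rw [inj_proj_of_mem_assoc c hc hi, inj_proj_of_mem c hc (h hi), inj_proj_of_mem c hc hi]
  · rw [inj_proj_of_not_mem_assoc c hc hi, zero_comp, inj_proj_of_not_mem c hc hi]

lemma fix_mono {t t' : Finset ι} (h : t ⊆ t') {K : C} (f : K ⟶ c.pt)
    (hf : f ≫ proj c hc t = f) : f ≫ proj c hc t' = f := by
  rw [← hf, Category.assoc, proj_comp_proj c hc h]

lemma proj_cπ_of_not_mem {t : Finset ι} {j : ι} (hj : j ∉ t) :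
    proj c hc t ≫ cπ c hc j = 0 := by
  refine Cofan.IsColimit.hom_ext hc _ _ (fun i => ?_)
  rw [comp_zero]
  by_cases hi : i ∈ t
  · rw [inj_proj_of_mem_assoc c hc hi, inj_cπ_of_ne c hc (fun h => hj (by rw [← h]; exact hi))]
  · rw [inj_proj_of_not_mem_assoc c hc hi, zero_comp]

lemma proj_empty : proj c hc (∅ : Finset ι) = 0 := by
  refine Cofan.IsColimit.hom_ext hc _ _ (fun i => ?_)
  rw [inj_proj_of_not_mem c hc (Finset.notMem_empty i), comp_zero]

/-- Independence of `proj` from the colimit witness. -/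
lemma proj_congr (hc' : IsColimit c) (t : Finset ι) : proj c hc t = proj c hc' t := by
  refine Cofan.IsColimit.hom_ext hc _ _ (fun i => ?_)
  by_cases hi : i ∈ t
  · rw [inj_proj_of_mem c hc hi, inj_proj_of_mem c hc' hi]
  · rw [inj_proj_of_not_mem c hc hi, inj_proj_of_not_mem c hc' hi]

/-- Compatibility of `proj` with a morphism of colimit cofans. -/
lemma proj_comp_of_compat {c' : Cofan Y} (hc' : IsColimit c') (a : c.pt ⟶ c'.pt)
    (ha : ∀ i, c.inj i ≫ a = c'.inj i) (t : Finset ι) :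
    proj c hc t ≫ a = a ≫ proj c' hc' t := by
  refine Cofan.IsColimit.hom_ext hc _ _ (fun i => ?_)
  by_cases hi : i ∈ t
  · rw [inj_proj_of_mem_assoc c hc hi, reassoc_of% (ha i), ha i, inj_proj_of_mem c' hc' hi]
  · rw [inj_proj_of_not_mem_assoc c hc hi, zero_comp, reassoc_of% (ha i),
      inj_proj_of_not_mem c' hc' hi]

/-- Functoriality of `proj`. -/
lemma map_proj {D : Type*} [Category D] [HasZeroMorphisms D] (G : C ⥤ D)
    [G.PreservesZeroMorphisms]
    (hc' : IsColimit (Cofan.mk (G.obj c.pt) (fun i => G.map (c.inj i)))) (t : Finset ι) :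
    G.map (proj c hc t) = proj _ hc' t := by
  refine Cofan.IsColimit.hom_ext hc' _ _ (fun i => ?_)
  change G.map (c.inj i) ≫ _ = Cofan.inj (Cofan.mk (G.obj c.pt) (fun i => G.map (c.inj i))) i ≫ _
  by_cases hi : i ∈ t
  · rw [inj_proj_of_mem _ hc' hi, ← G.map_comp, inj_proj_of_mem c hc hi]
    rfl
  · rw [inj_proj_of_not_mem _ hc' hi, ← G.map_comp, inj_proj_of_not_mem c hc hi, G.map_zero]

end Zero

section Preadd

variable {C : Type u} [Category.{v} C] [Preadditive C]
variable {ι : Type w'} {Y : ι → C} (c : Cofan Y) (hc : IsColimit c)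

lemma fix_of_eq_sum {K : C} (f : K ⟶ c.pt) (t : Finset ι) (g : ∀ i, K ⟶ Y i)
    (hf : f = ∑ i ∈ t, g i ≫ c.inj i) : f ≫ proj c hc t = f := by
  rw [hf, Preadditive.sum_comp]
  refine Finset.sum_congr rfl (fun i hi => ?_)
  rw [Category.assoc, inj_proj_of_mem c hc hi]

lemma proj_eq_sum (t : Finset ι) : proj c hc t = ∑ i ∈ t, cπ c hc i ≫ c.inj i := by
  classical
  refine Cofan.IsColimit.hom_ext hc _ _ (fun j => ?_)
  rw [Preadditive.comp_sum]
  by_cases hj : j ∈ t
  · rw [inj_proj_of_mem c hc hj, Finset.sum_eq_single j]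
    · rw [inj_cπ_self_assoc]
    · intro i _ hij
      rw [inj_cπ_of_ne_assoc c hc (Ne.symm hij), zero_comp]
    · intro h; exact absurd hj h
  · rw [inj_proj_of_not_mem c hc hj]
    symm
    refine Finset.sum_eq_zero (fun i hi => ?_)
    rw [inj_cπ_of_ne_assoc c hc (fun h => hj (by rw [h]; exact hi)), zero_comp]

lemma one_sub_proj_comp {t t' : Finset ι} (h : t ⊆ t') :
    (𝟙 c.pt - proj c hc t) ≫ (𝟙 c.pt - proj c hc t') = 𝟙 c.pt - proj c hc t' := by
  rw [Preadditive.sub_comp, Category.id_comp, Preadditive.comp_sub, Category.comp_id,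
    proj_comp_proj c hc h, sub_self, sub_zero]

end Preadd

section Cpt

variable {D : Type u} [Category.{v} D] [HasZeroMorphisms D]

/-- `K` is compact relative to coproducts indexed by types in `Type w'`: every morphism to the
point of a colimit cofan is fixed by a finite projector. -/
def CptU (K : D) : Prop :=
  ∀ (ι : Type w') (Y : ι → D) (c : Cofan Y) (hc : IsColimit c) (f : K ⟶ c.pt),
    ∃ t : Finset ι, f ≫ proj c hc t = f

lemma CptU.of_iso {K K' : D} (e : K ≅ K') (hK : CptU.{w'} K) : CptU.{w'} K' := by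
  intro ι Y c hc f
  obtain ⟨t, ht⟩ := hK ι Y c hc (e.hom ≫ f)
  refine ⟨t, ?_⟩
  rw [← cancel_epi e.hom, ← Category.assoc, ht]

lemma CptU.of_retract {K K' : D} (i : K' ⟶ K) (p : K ⟶ K') (hip : i ≫ p = 𝟙 K')
    (hK : CptU.{w'} K) : CptU.{w'} K' := by
  intro ι Y c hc f
  obtain ⟨t, ht⟩ := hK ι Y c hc (p ≫ f)
  refine ⟨t, ?_⟩
  have := congrArg (fun z => i ≫ z) ht
  simp only [← Category.assoc] at this
  rw [hip] at this
  simpa using this

lemma CptU.of_isZero {K : D} (hK : IsZero K) : CptU.{w'} K := by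
  intro ι Y c hc f
  exact ⟨∅, hK.eq_of_src _ _⟩

end Cpt

section CptTri

open Pretriangulated

variable {D : Type u} [Category.{v} D] [Preadditive D] [HasZeroObject D] [HasShift D ℤ]
  [∀ n : ℤ, (shiftFunctor D n).Additive] [Pretriangulated D]

lemma CptU.shift {K : D} (hK : CptU.{w'} K) (n : ℤ) : CptU.{w'} ((shiftFunctor D n).obj K) := by
  intro ι Y c hc f
  let G := shiftFunctor D (-n)
  have hc' : IsColimit (Cofan.mk (G.obj c.pt) (fun i => G.map (c.inj i))) :=
    (isColimitMapCoconeCofanMkEquiv G _ _) (isColimitOfPreserves G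
      (IsColimit.ofIsoColimit hc (Cofan.ext (Iso.refl _) (fun i => by simp) :
        c ≅ Cofan.mk c.pt c.inj)))
  let e : K ≅ G.obj ((shiftFunctor D n).obj K) :=
    (shiftEquiv D n).unitIso.app K
  obtain ⟨t, ht⟩ := hK ι (fun i => G.obj (Y i)) _ hc' (e.hom ≫ G.map f)
  refine ⟨t, ?_⟩
  rw [Category.assoc, ← map_proj c hc G hc' t, ← G.map_comp, cancel_epi] at ht
  exact G.map_injective ht

lemma CptU.obj₂ (T : Triangle D) (hT : T ∈ distTriang D) (h₁ : CptU.{w'} T.obj₁)
    (h₃ : CptU.{w'} T.obj₃) : CptU.{w'} T.obj₂ := by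
  intro ι Y c hc f
  obtain ⟨t, ht⟩ := h₁ ι Y c hc (T.mor₁ ≫ f)
  classical
  have h0 : T.mor₁ ≫ (f ≫ (𝟙 c.pt - proj c hc t)) = 0 := by
    rw [Preadditive.comp_sub, Preadditive.comp_sub, Category.comp_id, ← Category.assoc, ht,
      sub_self]
  obtain ⟨g, hg⟩ := Triangle.yoneda_exact₂ T hT _ h0
  obtain ⟨t', ht'⟩ := h₃ ι Y c hc g
  refine ⟨t ∪ t', ?_⟩
  have h1 : f ≫ (𝟙 c.pt - proj c hc t) ≫ (𝟙 c.pt - proj c hc (t ∪ t')) = 0 := by
    rw [← Category.assoc, hg, Category.assoc, Preadditive.comp_sub, Category.comp_id,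
      fix_mono c hc Finset.subset_union_right g ht', sub_self, comp_zero]
  rw [one_sub_proj_comp c hc Finset.subset_union_left, Preadditive.comp_sub, Category.comp_id,
    sub_eq_zero] at h1
  exact h1.symm

end CptTri

end Groth.Agent.Lib.Helper2.CptD
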