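import Groth.Agent.Lib.Helper2.CptD.Cx

/-!
# Resolutions by coproducts of members of a set `S`, and the first reduction:
a compact object of `D(A)` is a retract of a bounded complex of such coproducts.
-/

set_option autoImplicit false

universe w' w v u

open CategoryTheory CategoryTheory.Limits HomologicalComplex ZeroObject

namespace Groth.Agent.Lib.Helper2.CptD

variable {A : Type u} [Category.{v} A] [Abelian A] [HasFiniteBiproducts A] (S : Set A)

/-- `X` is a coproduct (indexed by a type in `Type w'`) of members of `S`. -/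
def BS : ObjectProperty A := fun X =>
  ∃ (ι : Type w') (E : ι → A) (inj : ∀ i, E i ⟶ X),
    Nonempty (IsColimit (Cofan.mk X inj)) ∧ ∀ i, E i ∈ S

/-- `X` is a finite direct sum of members of `S`. -/
def FS : ObjectProperty A := fun X =>
  ∃ (n : ℕ) (E : Fin n → A), (∀ j, E j ∈ S) ∧ Nonempty (X ≅ ⨁ E)

lemma BS.of_iso {X X' : A} (e : X ≅ X') (h : BS.{w'} S X) : BS.{w'} S X' := by
  obtain ⟨ι, E, inj, ⟨hc⟩, hE⟩ := h
  refine ⟨ι, E, fun i => inj i ≫ e.hom, ⟨?_⟩, hE⟩
  exact IsColimit.ofIsoColimit hc (Cofan.ext e (fun i => rfl))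

lemma FS.of_iso {X X' : A} (e : X ≅ X') (h : FS S X) : FS S X' := by
  obtain ⟨n, E, hE, ⟨α⟩⟩ := h
  exact ⟨n, E, hE, ⟨e.symm ≪≫ α⟩⟩

instance : (BS.{w'} S).IsClosedUnderIsomorphisms where
  of_iso e h := BS.of_iso S e h

instance : (FS S).IsClosedUnderIsomorphisms where
  of_iso e h := FS.of_iso S e h

lemma BS.of_isZero {X : A} (hX : IsZero X) : BS.{w'} S X := by
  refine ⟨PEmpty, fun i => i.elim, fun i => i.elim, ⟨?_⟩, fun i => i.elim⟩
  exact Cofan.IsColimit.mk _ (fun s => 0) (fun s i => i.elim) (fun s m _ => hX.eq_of_src _ _)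

lemma FS.of_isZero {X : A} (hX : IsZero X) : FS S X := by
  refine ⟨0, fun i => i.elim0, fun i => i.elim0, ⟨?_⟩⟩
  exact hX.iso (by
    rw [IsZero.iff_id_eq_zero]
    apply biproduct.hom_ext
    intro j
    exact j.elim0)

instance : (BS.{w'} S).ContainsZero where
  exists_zero := ⟨0, isZero_zero A, BS.of_isZero S (isZero_zero A)⟩

lemma BS_prod (X Y : A) (hX : BS.{w'} S X) (hY : BS.{w'} S Y) : BS.{w'} S (X ⨯ Y) := by
  obtain ⟨ι₁, E₁, inj₁, ⟨hc₁⟩, hE₁⟩ := hX
  obtain ⟨ι₂, E₂, inj₂, ⟨hc₂⟩, hE₂⟩ := hY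
  refine BS.of_iso S (biprod.isoProd X Y) ?_
  refine ⟨ι₁ ⊕ ι₂, Sum.elim E₁ E₂,
    fun i => match i with
      | Sum.inl i => inj₁ i ≫ biprod.inl
      | Sum.inr i => inj₂ i ≫ biprod.inr, ⟨?_⟩,
    fun i => match i with
      | Sum.inl i => hE₁ i
      | Sum.inr i => hE₂ i⟩
  refine Cofan.IsColimit.mk _
    (fun s => biprod.desc
      (Cofan.IsColimit.desc hc₁ (fun i => s.inj (Sum.inl i)))
      (Cofan.IsColimit.desc hc₂ (fun i => s.inj (Sum.inr i))))
    (fun s i => ?_) (fun s m hm => ?_)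
  · rcases i with i | i
    · change (inj₁ i ≫ biprod.inl) ≫ _ = _
      rw [Category.assoc, biprod.inl_desc]
      exact Cofan.IsColimit.fac hc₁ _ i
    · change (inj₂ i ≫ biprod.inr) ≫ _ = _
      rw [Category.assoc, biprod.inr_desc]
      exact Cofan.IsColimit.fac hc₂ _ i
  · apply biprod.hom_ext'
    · rw [biprod.inl_desc]
      refine Cofan.IsColimit.hom_ext hc₁ _ _ (fun i => ?_)
      rw [Cofan.IsColimit.fac]
      have := hm (Sum.inl i)
      change (inj₁ i ≫ biprod.inl) ≫ m = _ at this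
      rw [Category.assoc] at this
      exact this
    · rw [biprod.inr_desc]
      refine Cofan.IsColimit.hom_ext hc₂ _ _ (fun i => ?_)
      rw [Cofan.IsColimit.fac]
      have := hm (Sum.inr i)
      change (inj₂ i ≫ biprod.inr) ≫ m = _ at this
      rw [Category.assoc] at this
      exact this

section Resolution

open PCoh Groth.Agent.Lib.Helper13.PC DerivedCategory

variable {S}
variable (h1 : ∀ X : A, IsOfFiniteType (BS.{w'} S) X)

include h1 in
lemma hql_BS : IsQuasiLiftable (BS.{w'} S) := by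
  intro E F u hu _
  obtain ⟨F', v, hF', hv⟩ := h1 E
  exact ⟨F', v, hF', epi_comp v u⟩

include h1 in
lemma hqs_BS : IsQuasiStableUnderKernels (BS.{w'} S) := fun _ _ _ _ => h1 _

include h1 in
lemma isCoherent_BS (M : A) : IsCoherent (BS.{w'} S) M := ⟨h1 M, fun _ _ _ => h1 _⟩

variable [HasDerivedCategory.{w} A]

include h1 in
lemma isPC_single_BS (M : A) :
    IsPC (BS.{w'} S) ((DerivedCategory.singleFunctor A 0).obj M) :=
  fun m => isNPC_single_of_isCoherent (fun _ _ _ _ _ => h1 _) (BS_prod S) (hql_BS h1)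
    (isCoherent_BS h1 M) m

include h1 in
theorem isPC_BS_of_bounded (K : DerivedCategory A) (b : ℤ)
    (hb : ∀ i : ℤ, b < i → IsZero ((DerivedCategory.homologyFunctor A i).obj K)) :
    IsPC (BS.{w'} S) K :=
  fun n => isNPC_of_homology (BS_prod S) (hqs_BS h1) (hql_BS h1) K b hb
    (fun i _ => isPC_single_BS h1 _ (n - i))

include h1 in
/-- Bounded above resolutions by coproducts of members of `S`. -/
theorem exists_BS_resolution (K : DerivedCategory A) (b : ℤ)
    (hb : ∀ i : ℤ, b < i → IsZero ((DerivedCategory.homologyFunctor A i).obj K)) :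
    ∃ P : CochainComplex A ℤ, (∀ i : ℤ, BS.{w'} S (P.X i)) ∧ (∀ i : ℤ, b < i → IsZero (P.X i)) ∧
      Nonempty (Q.obj P ≅ K) := by
  obtain ⟨E, hP, hz, hE⟩ := exists_strictPCAll_iso (BS_prod S) (hqs_BS h1) (hql_BS h1) K
    (isPC_BS_of_bounded h1 K b hb) (b + 1) (fun i hi => hb i (by lia))
  exact ⟨E, hP, fun i hi => hz i (by lia), hE⟩

end Resolution

section Bottom

variable [HasDerivedCategory.{w} A]

open DerivedCategory Groth.Agent.Lib.Helper13.PC

omit [HasFiniteBiproducts A] [HasDerivedCategory.{w} A] in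
lemma πTruncGE_f_truncGEXIsoOpcycles_hom' {ι ι' : Type*} {c : ComplexShape ι}
    {c' : ComplexShape ι'} (K : HomologicalComplex A c') (e : c.Embedding c') [e.IsTruncGE]
    {i : ι} {i' : ι'} (hi' : e.f i = i') (hi : e.BoundaryGE i) :
    (K.πTruncGE e).f i' ≫ (K.truncGEXIsoOpcycles e hi' hi).hom = K.pOpcycles i' := by
  have h1 : (K.πTruncGE e).f i' = K.pOpcycles i' ≫ (K.truncGEXIsoOpcycles e hi' hi).inv := by
    dsimp only [HomologicalComplex.πTruncGE, HomologicalComplex.truncGEXIsoOpcycles]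
    rw [e.liftExtend_f _ _ hi', K.restrictionToTruncGE'_f_eq_iso_hom_pOpcycles_iso_inv e hi' hi]
    simp
    rfl
  rw [h1, Category.assoc, Iso.inv_hom_id, Category.comp_id]

omit [HasFiniteBiproducts A] [HasDerivedCategory.{w} A] in
lemma πTruncGE_f_truncGEXIsoOpcycles_hom (P : CochainComplex A ℤ) (n : ℤ) :
    (P.πTruncGE n).f n ≫ (P.truncGEXIsoOpcycles n).hom = P.pOpcycles n :=
  πTruncGE_f_truncGEXIsoOpcycles_hom' P (ComplexShape.embeddingUpIntGE n) (i := 0) (by simp)
    (by rw [ComplexShape.boundaryGE_embeddingUpIntGE_iff])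

/-- The projection of a complex (vanishing below `n`) onto its bottom term. -/
noncomputable def botPr (T : CochainComplex A ℤ) (n : ℤ) (hT : ∀ i : ℤ, i < n → IsZero (T.X i)) :
    T ⟶ (single A (ComplexShape.up ℤ) n).obj (T.X n) :=
  mkHomToSingle (𝟙 (T.X n)) (fun i hi => (hT i (by
    simp only [ComplexShape.up_Rel] at hi
    lia)).eq_of_src _ _)

lemma botPr_f (T : CochainComplex A ℤ) (n : ℤ) (hT : ∀ i : ℤ, i < n → IsZero (T.X i)) :
    (botPr T n hT).f n = (singleObjXSelf (ComplexShape.up ℤ) n (T.X n)).inv := by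
  rw [botPr, mkHomToSingle_f, Category.id_comp]

lemma epi_botPr_f (T : CochainComplex A ℤ) (n : ℤ) (hT : ∀ i : ℤ, i < n → IsZero (T.X i))
    (i : ℤ) : Epi ((botPr T n hT).f i) := by
  by_cases h : i = n
  · subst h
    rw [botPr_f]
    infer_instance
  · exact ⟨fun _ _ _ => (isZero_single_obj_X (ComplexShape.up ℤ) n (T.X n) i h).eq_of_src _ _⟩

variable {S}

/-- First reduction: a compact object is a retract of a bounded complex of coproducts of
members of `S`. -/
theorem exists_bounded_BS_retract (hQ : QPreservesCofans.{w'} (A := A))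
    (h1 : ∀ X : A, PCoh.IsOfFiniteType (BS.{w'} S) X)
    {K : DerivedCategory A} (hK : CptU.{w'} K) :
    ∃ (L : CochainComplex A ℤ) (a b : ℤ), (∀ i : ℤ, i < a ∨ b < i → IsZero (L.X i)) ∧
      (∀ i : ℤ, BS.{w'} S (L.X i)) ∧ Nonempty (Retract K (Q.obj L)) := by
  -- step 1: `K` is bounded above
  let X := Q.objPreimage K
  let e : Q.obj X ≅ K := Q.objObjPreimageIso K
  obtain ⟨t, ht⟩ := exists_finset_comp_toSingleOpcycles_eq_zero hQ hK X e.inv
  obtain ⟨b, hb⟩ := t.bddAbove
  have hKb : ∀ i : ℤ, b < i → IsZero ((DerivedCategory.homologyFunctor A i).obj K) := by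
    intro i hi
    have hit : i ∉ t := fun h => absurd (hb h) (by lia)
    have h0 : Q.map (toSingleOpcycles X i) = 0 := by
      rw [← cancel_epi e.inv, ht i hit, comp_zero]
    exact (isZero_homology_of_Q_map_toSingleOpcycles_eq_zero X i h0).of_iso
      ((DerivedCategory.homologyFunctor A i).mapIso e.symm ≪≫ homologyQIso X i)
  -- step 2: resolution
  obtain ⟨P, hPS, hPb, ⟨θ⟩⟩ := exists_BS_resolution h1 K b hKb
  -- step 3: the trick again
  obtain ⟨t', ht'⟩ := exists_finset_comp_toSingleOpcycles_eq_zero hQ hK P θ.inv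
  obtain ⟨n₀, hn₀⟩ := t'.bddBelow
  obtain ⟨n, hn⟩ : ∃ n : ℤ, n = n₀ - 1 := ⟨_, rfl⟩
  have hPn : ∀ j : ℤ, j ≤ n → Q.map (toSingleOpcycles P j) = 0 := by
    intro j hj
    have hjt : j ∉ t' := fun h => absurd (hn₀ h) (by lia)
    rw [← cancel_epi θ.inv, ht' j hjt, comp_zero]
  have hPH : ∀ j : ℤ, j ≤ n → IsZero (P.homology j) := fun j hj =>
    isZero_homology_of_Q_map_toSingleOpcycles_eq_zero P j (hPn j hj)
  -- step 4: truncation
  have : P.IsGE n := by
    rw [CochainComplex.isGE_iff]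
    intro i hi
    rw [exactAt_iff_isZero_homology]
    exact hPH i (by lia)
  let T := P.truncGE n
  let π : P ⟶ T := P.πTruncGE n
  have hπ : QuasiIso π := inferInstance
  have : IsIso (Q.map π) := by rw [isIso_Q_map_iff_quasiIso]; exact hπ
  have hT : ∀ i : ℤ, i < n → IsZero (T.X i) := fun i hi =>
    CochainComplex.isZero_of_isStrictlyGE T n i hi
  let β := botPr T n hT
  have hβ := epi_botPr_f T n hT
  have hfac : toSingleOpcycles P n =
      π ≫ β ≫ (single A (ComplexShape.up ℤ) n).map (P.truncGEXIsoOpcycles n).hom := by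
    apply to_single_hom_ext
    rw [toSingleOpcycles_f, comp_f, comp_f, botPr_f, single_map_f_self, Iso.inv_hom_id_assoc,
      ← Category.assoc, πTruncGE_f_truncGEXIsoOpcycles_hom]
  have hQβ : Q.map β = 0 := by
    have h0 := hPn n le_rfl
    rw [hfac, Functor.map_comp, Functor.map_comp] at h0
    have : IsIso (Q.map ((single A (ComplexShape.up ℤ) n).map (P.truncGEXIsoOpcycles n).hom)) :=
      inferInstance
    rw [← cancel_epi (Q.map π), ← cancel_mono (Q.map ((single A (ComplexShape.up ℤ) n).map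
      (P.truncGEXIsoOpcycles n).hom)), Category.assoc, h0, comp_zero, zero_comp]
  obtain ⟨σ, hσ⟩ := exists_lift_kernel β hβ (𝟙 (Q.obj T)) (by rw [Category.id_comp, hQβ])
  have hLiso : ∀ i : ℤ, i ≠ n → IsIso ((kernel.ι β).f i) := fun i hi =>
    isIso_kernel_ι_f β hβ i (isZero_single_obj_X (ComplexShape.up ℤ) n (T.X n) i hi)
  have hLn : IsZero ((kernel β).X n) := by
    refine isZero_kernel_X β hβ n ?_
    rw [botPr_f]
    infer_instance
  have hLT : ∀ i : ℤ, i ≠ n → ((kernel β).X i ≅ T.X i) := fun i hi =>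
    @asIso _ _ _ _ _ (hLiso i hi)
  refine ⟨kernel β, n + 1, b, ?_, ?_, ⟨?_⟩⟩
  · rintro i (hi | hi)
    · by_cases h : i = n
      · subst h; exact hLn
      · exact (hT i (by lia)).of_iso (hLT i h)
    · by_cases h : i = n
      · subst h; exact hLn
      · by_cases h' : n < i
        · exact (hPb i hi).of_iso (hLT i h ≪≫ P.truncGEXIso n i h')
        · exact (hT i (by lia)).of_iso (hLT i h)
  · intro i
    by_cases h : i = n
    · subst h; exact BS.of_isZero S hLn
    · by_cases h' : n < i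
      · exact BS.of_iso S (hLT i h ≪≫ P.truncGEXIso n i h').symm (hPS i)
      · exact BS.of_isZero S ((hT i (by lia)).of_iso (hLT i h))
  · exact
      { i := θ.inv ≫ Q.map π ≫ σ
        r := Q.map (kernel.ι β) ≫ inv (Q.map π) ≫ θ.hom
        retract := by
          simp only [Category.assoc]
          rw [reassoc_of% hσ, IsIso.hom_inv_id_assoc, Iso.inv_hom_id] }

end Bottom

end Groth.Agent.Lib.Helper2.CptD
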