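import Groth.Agent.Lib.Helper2.CptD.Proj

/-!
# Sequential systems and colimit cofans: the shift endomorphism
-/

set_option autoImplicit false

universe v u

open CategoryTheory CategoryTheory.Limits

namespace Groth.Agent.Lib.Helper2.CptD

variable {D : Type u} [Category.{v} D] [Preadditive D]
variable {Y : ℕ → D} (c : Cofan Y) (hc : IsColimit c) (f : ∀ n, Y n ⟶ Y (n + 1))

/-- The shift endomorphism of a colimit cofan attached to a sequential system. -/
noncomputable def sMap : c.pt ⟶ c.pt :=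
  Cofan.IsColimit.desc hc (fun n => f n ≫ c.inj (n + 1))

@[reassoc]
lemma inj_sMap (n : ℕ) : c.inj n ≫ sMap c hc f = f n ≫ c.inj (n + 1) :=
  Cofan.IsColimit.fac hc _ n

lemma sMap_cπ_zero : sMap c hc f ≫ cπ c hc 0 = 0 := by
  refine Cofan.IsColimit.hom_ext hc _ _ (fun n => ?_)
  rw [inj_sMap_assoc, inj_cπ_of_ne c hc (Nat.succ_ne_zero n), comp_zero, comp_zero]

lemma sMap_cπ_succ (m : ℕ) : sMap c hc f ≫ cπ c hc (m + 1) = cπ c hc m ≫ f m := by
  refine Cofan.IsColimit.hom_ext hc _ _ (fun n => ?_)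
  rw [inj_sMap_assoc]
  by_cases h : n = m
  · subst h
    rw [inj_cπ_self, inj_cπ_self_assoc, Category.comp_id]
  · rw [inj_cπ_of_ne c hc (fun h' => h (Nat.succ_injective h')), comp_zero,
      inj_cπ_of_ne_assoc c hc h, zero_comp]

/-- `1 - shift` is injective on morphisms with finite support. -/
lemma eq_zero_of_fix {K : D} (w : K ⟶ c.pt) (t : Finset ℕ) (hw : w ≫ proj c hc t = w)
    (h0 : w ≫ (𝟙 c.pt - sMap c hc f) = 0) : w = 0 := by
  have h1 : w ≫ sMap c hc f = w := by
    rw [Preadditive.comp_sub, Category.comp_id, sub_eq_zero] at h0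
    exact h0.symm
  have h2 : ∀ m : ℕ, w ≫ cπ c hc m = 0 := by
    intro m
    induction m with
    | zero =>
      rw [← h1, Category.assoc, sMap_cπ_zero, comp_zero]
    | succ m ih =>
      rw [← h1, Category.assoc, sMap_cπ_succ, reassoc_of% ih, zero_comp]
  rw [← hw, proj_eq_sum, Preadditive.comp_sum]
  refine Finset.sum_eq_zero (fun m _ => ?_)
  rw [reassoc_of% (h2 m), zero_comp]

end Groth.Agent.Lib.Helper2.CptD
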