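import Groth.Agent.Lib.Helper2.CptD.Proj

/-!
# Reindexing colimit cofans along `ULift`
-/

set_option autoImplicit false

universe w₁ w₂ v₁ u₁

open CategoryTheory CategoryTheory.Limits

namespace Groth.Agent.Lib.Helper2.CptD

variable {D : Type u₁} [Category.{v₁} D]

/-- Reindexing a colimit cofan along `ULift.down`. -/
noncomputable def isColimitUp {ι : Type w₁} {Y : ι → D} (c : Cofan Y) (hc : IsColimit c) :
    IsColimit (Cofan.mk c.pt (fun i : ULift.{w₂} ι => c.inj i.down) :
      Cofan (fun i : ULift.{w₂} ι => Y i.down)) :=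
  Cofan.IsColimit.mk _ (fun s => Cofan.IsColimit.desc hc (fun i => s.inj ⟨i⟩))
    (fun s i => Cofan.IsColimit.fac hc _ i.down)
    (fun s m hm => Cofan.IsColimit.hom_ext hc _ _ (fun i => by
      rw [Cofan.IsColimit.fac]
      exact hm ⟨i⟩))

/-- Reindexing a colimit cofan along `ULift.up`. -/
noncomputable def isColimitDown {ι : Type w₁} {Y : ι → D}
    (c : Cofan (fun i : ULift.{w₂} ι => Y i.down)) (hc : IsColimit c) :
    IsColimit (Cofan.mk c.pt (fun i : ι => c.inj ⟨i⟩) : Cofan Y) :=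
  Cofan.IsColimit.mk _ (fun s => Cofan.IsColimit.desc hc (fun i => s.inj i.down))
    (fun s i => Cofan.IsColimit.fac hc _ ⟨i⟩)
    (fun s m hm => Cofan.IsColimit.hom_ext hc _ _ (fun i => by
      rw [Cofan.IsColimit.fac]
      exact hm i.down))

variable [HasZeroMorphisms D]

lemma proj_up {ι : Type w₁} {Y : ι → D} (c : Cofan Y) (hc : IsColimit c)
    (t' : Finset (ULift.{w₂} ι)) [DecidableEq ι] :
    proj (Cofan.mk c.pt (fun i : ULift.{w₂} ι => c.inj i.down) :
      Cofan (fun i : ULift.{w₂} ι => Y i.down)) (isColimitUp c hc) t' =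
      proj c hc (t'.image ULift.down) := by
  refine Cofan.IsColimit.hom_ext hc _ _ (fun i => ?_)
  by_cases hi : (ULift.up i : ULift.{w₂} ι) ∈ t'
  · have h1 := inj_proj_of_mem (Cofan.mk c.pt (fun i : ULift.{w₂} ι => c.inj i.down) :
      Cofan (fun i : ULift.{w₂} ι => Y i.down)) (isColimitUp c hc) hi
    have h2 : i ∈ t'.image ULift.down := Finset.mem_image.2 ⟨_, hi, rfl⟩
    rw [inj_proj_of_mem c hc h2]
    exact h1
  · have h1 := inj_proj_of_not_mem (Cofan.mk c.pt (fun i : ULift.{w₂} ι => c.inj i.down) :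
      Cofan (fun i : ULift.{w₂} ι => Y i.down)) (isColimitUp c hc) hi
    have h2 : i ∉ t'.image ULift.down := by
      intro h
      obtain ⟨j, hj, rfl⟩ := Finset.mem_image.1 h
      exact hi hj
    rw [inj_proj_of_not_mem c hc h2]
    exact h1

end Groth.Agent.Lib.Helper2.CptD
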